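import Cfsg.Agent.Lib.IndexFourCentre.Basic
import Cfsg.Agent.Lib.Transfer.Fusion
import Cfsg.Agent.GStructB.ProductFusion.Main
import Cfsg.Agent.Lib.Blocks.BrauerHomocyclic
import Cfsg.Prelude.Def_TwoFusion

/-!
# Abelian Sylow 2-subgroups with an invariant subgroup having four group quotient

In a simple group such a Sylow subgroup is a four group.
-/

set_option autoImplicit false
set_option linter.style.haveILetI false
set_option linter.unusedSectionVars false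

namespace Cfsg.Agent.IndexFourCentre.Abelian

open Subgroup
open scoped commutatorElement IsMulCommutative

universe u

variable {G : Type u} [Group G] [Finite G] (Q : Sylow 2 G)

section

variable (hab : ∀ x ∈ (Q : Subgroup G), ∀ y ∈ (Q : Subgroup G), x * y = y * x)
include hab

/-- The norm map of a group of odd order. -/
theorem exists_norm {N : Subgroup G} (hQN : (Q : Subgroup G) ≤ N)
    (hN : N ≤ normalizer ((Q : Subgroup G) : Set G)) :
    ∃ (k : ℕ) (θ : G → G), Odd k ∧ θ 1 = 1 ∧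
      (∀ v ∈ (Q : Subgroup G), θ v ∈ (Q : Subgroup G)) ∧
      (∀ v ∈ (Q : Subgroup G), ∀ w ∈ (Q : Subgroup G), θ (v * w) = θ v * θ w) ∧
      (∀ n ∈ N, ∀ v ∈ (Q : Subgroup G), θ (n * v * n⁻¹) = θ v ∧ n * θ v * n⁻¹ = θ v) ∧
      (∀ v ∈ (Q : Subgroup G), (∀ n ∈ N, n * v * n⁻¹ = v) → θ v = v ^ k) ∧
      ∀ S : Subgroup G, ∀ v ∈ (Q : Subgroup G), (∀ n ∈ N, v⁻¹ * (n * v * n⁻¹) ∈ S) →
        (v ^ k)⁻¹ * θ v ∈ S := by
  classical
  haveI : Fact (Nat.Prime 2) := ⟨Nat.prime_two⟩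
  haveI : IsMulCommutative (Q : Subgroup G) := ⟨⟨fun a b => Subtype.ext (hab a a.2 b b.2)⟩⟩
  let ρ : ↥N →* MulAut ↥(Q : Subgroup G) :=
    ((Q : Subgroup G).normalizerMonoidHom).comp (Subgroup.inclusion hN)
  haveI : Finite ρ.range := Finite.of_surjective _ ρ.rangeRestrict_surjective
  haveI : Fintype ρ.range := Fintype.ofFinite _
  have hcard : Nat.card ρ.range = (centralizer ((Q : Subgroup G) : Set G)).relIndex N := by
    rw [← Subgroup.index_ker, Subgroup.relIndex]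
    congr 1
    rw [← MonoidHom.comap_ker, normalizerMonoidHom_ker]
    ext x; rfl
  have hodd : Odd (Fintype.card ρ.range) := by
    rw [← Nat.card_eq_fintype_card, hcard, Nat.odd_iff]
    have hQC : (Q : Subgroup G) ≤ centralizer ((Q : Subgroup G) : Set G) := fun x hx =>
      mem_centralizer_iff.2 fun y hy => hab y hy x hx
    have h1 : ¬ 2 ∣ (centralizer ((Q : Subgroup G) : Set G)).relIndex N := fun e =>
      Q.not_dvd_index ((e.trans (relIndex_dvd_of_le_left N hQC)).trans (relIndex_dvd_index_of_le hQN))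
    omega
  let θ : ↥(Q : Subgroup G) →* ↥(Q : Subgroup G) :=
    { toFun := fun v => ∏ a : ρ.range, (a : MulAut ↥(Q : Subgroup G)) v
      map_one' := Finset.prod_eq_one fun a _ => map_one _
      map_mul' := fun v w => by simp_rw [map_mul]; exact Finset.prod_mul_distrib }
  refine ⟨Fintype.card ρ.range, fun v => if hv : v ∈ (Q : Subgroup G) then (θ ⟨v, hv⟩ : G) else 1,
    hodd, ?_, ?_, ?_, ?_, ?_, ?_⟩
  · simp only [dif_pos (one_mem _)]
    exact congrArg Subtype.val (map_one θ)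
  · intro v hv
    simp only [dif_pos hv]
    exact SetLike.coe_mem _
  · intro v hv w hw
    simp only [dif_pos hv, dif_pos hw, dif_pos (mul_mem hv hw)]
    exact congrArg Subtype.val (map_mul θ ⟨v, hv⟩ ⟨w, hw⟩)
  · intro n hn v hv
    have hv' : n * v * n⁻¹ ∈ (Q : Subgroup G) := (mem_normalizer_iff.1 (hN hn) v).1 hv
    simp only [dif_pos hv', dif_pos hv]
    refine ⟨congrArg Subtype.val (show θ (ρ ⟨n, hn⟩ ⟨v, hv⟩) = θ ⟨v, hv⟩ from
      Fintype.prod_equiv (Equiv.mulRight (⟨ρ ⟨n, hn⟩, _, rfl⟩ : ρ.range)) _ _ fun a => rfl), ?_⟩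
    refine congrArg Subtype.val (show ρ ⟨n, hn⟩ (θ ⟨v, hv⟩) = θ ⟨v, hv⟩ from ?_)
    show ρ ⟨n, hn⟩ (∏ a : ρ.range, (a : MulAut ↥(Q : Subgroup G)) ⟨v, hv⟩) = _
    rw [map_prod]
    exact Fintype.prod_equiv (Equiv.mulLeft (⟨ρ ⟨n, hn⟩, _, rfl⟩ : ρ.range)) _ _ fun a => rfl
  · intro v hv hfix
    simp only [dif_pos hv]
    have hfx : ∀ a : ρ.range, (a : MulAut ↥(Q : Subgroup G)) ⟨v, hv⟩ = ⟨v, hv⟩ := by
      rintro ⟨_, b, rfl⟩
      exact Subtype.ext (hfix b b.2)
    show ((∏ a : ρ.range, (a : MulAut ↥(Q : Subgroup G)) ⟨v, hv⟩ : ↥(Q : Subgroup G)) : G) = _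
    rw [Finset.prod_congr rfl fun a _ => hfx a, Finset.prod_const, Finset.card_univ,
      SubmonoidClass.coe_pow]
  · intro S v hv hmod
    simp only [dif_pos hv]
    have hmem : (⟨v, hv⟩ ^ Fintype.card ρ.range)⁻¹ * θ ⟨v, hv⟩ ∈ S.subgroupOf (Q : Subgroup G) := by
      have : (⟨v, hv⟩ ^ Fintype.card ρ.range)⁻¹ * θ ⟨v, hv⟩ =
          ∏ a : ρ.range, (⟨v, hv⟩ : ↥(Q : Subgroup G))⁻¹ * (a : MulAut ↥(Q : Subgroup G)) ⟨v, hv⟩ := by
        rw [Finset.prod_mul_distrib, Finset.prod_const, Finset.card_univ, inv_pow]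
        rfl
      rw [this]
      refine Subgroup.prod_mem _ ?_
      rintro ⟨_, b, rfl⟩ -
      exact hmod b b.2
    exact hmem

theorem burnside {g x : G} (hx : x ∈ (Q : Subgroup G)) (hgx : g * x * g⁻¹ ∈ (Q : Subgroup G)) :
    ∃ n ∈ normalizer ((Q : Subgroup G) : Set G), n * x * n⁻¹ = g * x * g⁻¹ := by
  haveI : Fact (Nat.Prime 2) := ⟨Nat.prime_two⟩
  have hfix : ∀ y ∈ (Q : Subgroup G), ∀ z ∈ (Q : Subgroup G), z * y * z⁻¹ = y := fun y hy z hz => by
    rw [hab z hz y hy, mul_inv_cancel_right]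
  obtain ⟨n, hn, e⟩ := Cfsg.Agent.Transfer.Fusion.burnside_fusion_set Q (X := {x})
    (Y := {g * x * g⁻¹})
    (fun z hz => by rw [Set.image_singleton, hfix x hx z hz])
    (fun z hz => by rw [Set.image_singleton, hfix _ hgx z hz])
    (g := g) (Set.image_singleton ..)
  exact ⟨n, hn, Set.singleton_injective (by rw [← e, Set.image_singleton])⟩

/-- Two disjoint invariant subgroups. -/
theorem no_pair [IsSimpleGroup G] (hG : ¬ IsMulCommutative G) (hO : Cfsg.oddCore G = ⊥)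
    {S₁ S₂ : Subgroup G} (h₁ : S₁ ≤ (Q : Subgroup G)) (h₂ : S₂ ≤ (Q : Subgroup G))
    (hn₁ : ∀ n ∈ normalizer ((Q : Subgroup G) : Set G), ∀ x ∈ S₁, n * x * n⁻¹ ∈ S₁)
    (hn₂ : ∀ n ∈ normalizer ((Q : Subgroup G) : Set G), ∀ x ∈ S₂, n * x * n⁻¹ ∈ S₂)
    (hd : S₁ ⊓ S₂ = ⊥) : S₁ = ⊥ ∨ S₂ = ⊥ := by
  by_contra hne
  push Not at hne
  have hclosed : ∀ {S : Subgroup G}, S ≤ (Q : Subgroup G) →
      (∀ n ∈ normalizer ((Q : Subgroup G) : Set G), ∀ x ∈ S, n * x * n⁻¹ ∈ S) →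
      Cfsg.IsStronglyClosed S (Q : Subgroup G) := fun {S} hle hinv => ⟨hle, fun x hx g hg => by
    obtain ⟨n, hn, e⟩ := burnside Q hab (hle hx) hg
    exact e ▸ hinv n hn x hx⟩
  have hcomm := Cfsg.Agent.ProductFusion.commutator_normalClosure_eq_bot hO Q S₁ S₂
    (hclosed h₁ hn₁) (hclosed h₂ hn₂) (fun a ha b hb => hab a (h₁ ha) b (h₂ hb)) hd
  have htop : ∀ K : Subgroup G, K ≠ ⊥ → normalClosure (K : Set G) = ⊤ := fun K hK =>
    (normalClosure_normal.eq_bot_or_eq_top).resolve_left fun e =>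
      hK (le_bot_iff.1 ((subset_normalClosure (s := (K : Set G))).trans_eq (by rw [e])))
  rw [htop _ hne.1, htop _ hne.2, ← _root_.commutator_def] at hcomm
  have hc : center G = ⊤ := (commutator_eq_bot_iff_center_eq_top (G := G)).1 hcomm
  exact hG ⟨⟨fun a b => (mem_center_iff.1 (hc ▸ mem_top a) b).symm⟩⟩

/-- Transfer. -/
theorem focal (hperf : commutator G = ⊤) :
    (Q : Subgroup G) ≤ closure {y | ∃ n ∈ normalizer ((Q : Subgroup G) : Set G),
      ∃ x ∈ (Q : Subgroup G), y = x * (n * x * n⁻¹)⁻¹} := by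
  haveI : Fact (Nat.Prime 2) := ⟨Nat.prime_two⟩
  have h := Cfsg.Agent.Transfer.Fusion.focal_le_of_fusion Q
    (F := closure {y | ∃ n ∈ normalizer ((Q : Subgroup G) : Set G),
      ∃ x ∈ (Q : Subgroup G), y = x * (n * x * n⁻¹)⁻¹}) fun x hx g hg => by
    obtain ⟨n, hn, e⟩ := burnside Q hab hx hg
    exact ⟨n, e, Subgroup.subset_closure ⟨n, hn, x, hx, by rw [commutatorElement_def]; group⟩⟩
  rwa [hperf, top_inf_eq] at h

/-- Nothing in a perfect group's abelian Sylow subgroup is centralised by its normaliser. -/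
theorem fixed_eq_one (hperf : commutator G = ⊤) {x : G} (hx : x ∈ (Q : Subgroup G))
    (hfix : ∀ n ∈ normalizer ((Q : Subgroup G) : Set G), n * x * n⁻¹ = x) : x = 1 := by
  haveI : Fact (Nat.Prime 2) := ⟨Nat.prime_two⟩
  obtain ⟨k, θ, hk, hθ1, hθQ, hθm, hθn, hθf, -⟩ := exists_norm Q hab (le_normalizer) le_rfl
  have hle : closure {y | ∃ n ∈ normalizer ((Q : Subgroup G) : Set G),
      ∃ x ∈ (Q : Subgroup G), y = x * (n * x * n⁻¹)⁻¹} ≤
      ({ carrier := {y | y ∈ (Q : Subgroup G) ∧ θ y = 1}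
         one_mem' := ⟨one_mem _, hθ1⟩
         mul_mem' := fun {a b} ha hb => ⟨mul_mem ha.1 hb.1, by
           rw [hθm a ha.1 b hb.1, ha.2, hb.2, one_mul]⟩
         inv_mem' := fun {a} ha => ⟨inv_mem ha.1, by
           have := hθm a⁻¹ (inv_mem ha.1) a ha.1
           rw [inv_mul_cancel, hθ1, ha.2, mul_one] at this
           exact this.symm⟩ } : Subgroup G) := (closure_le _).2 (by
    rintro _ ⟨n, hn, v, hv, rfl⟩
    have hv' : n * v * n⁻¹ ∈ (Q : Subgroup G) := (mem_normalizer_iff.1 hn v).1 hv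
    refine ⟨mul_mem hv (inv_mem hv'), ?_⟩
    have h1 := hθm _ (mul_mem hv (inv_mem hv')) _ hv'
    rw [inv_mul_cancel_right, (hθn n hn v hv).1] at h1
    exact mul_eq_right.1 h1.symm)
  have h1 : x ^ k = 1 := (hθf x hx hfix).symm.trans (hle (focal Q hab hperf hx)).2
  obtain ⟨i, hi⟩ := Q.2 ⟨x, hx⟩
  have hi' : x ^ 2 ^ i = 1 := congrArg Subtype.val hi
  rw [← orderOf_eq_one_iff]
  exact Nat.eq_one_of_dvd_coprimes
    (Nat.Coprime.pow_right i (Nat.coprime_two_right.2 hk))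
    (orderOf_dvd_of_pow_eq_one h1) (orderOf_dvd_of_pow_eq_one hi')

end

/-- The elements of `N(Q)` acting trivially on `Q / Y`. -/
def triv (Q : Sylow 2 G) (Y : Subgroup G)
    (hY : ∀ n ∈ normalizer ((Q : Subgroup G) : Set G), ∀ y ∈ Y, n * y * n⁻¹ ∈ Y) : Subgroup G where
  carrier := {n | n ∈ normalizer ((Q : Subgroup G) : Set G) ∧
    ∀ x ∈ (Q : Subgroup G), x⁻¹ * (n * x * n⁻¹) ∈ Y}
  one_mem' := ⟨one_mem _, fun x _ => by simp⟩
  mul_mem' {n m} hn hm := ⟨mul_mem hn.1 hm.1, fun x hx => by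
    rw [show x⁻¹ * (n * m * x * (n * m)⁻¹) =
      x⁻¹ * (m * x * m⁻¹) * ((m * x * m⁻¹)⁻¹ * (n * (m * x * m⁻¹) * n⁻¹)) by group]
    exact mul_mem (hm.2 x hx) (hn.2 _ ((mem_normalizer_iff.1 hm.1 x).1 hx))⟩
  inv_mem' {n} hn := ⟨inv_mem hn.1, fun x hx => by
    have := hY _ (inv_mem hn.1) _ (inv_mem (hn.2 _ ((mem_normalizer_iff''.1 hn.1 x).1 hx)))
    have h2 := inv_mem (hn.2 _ ((mem_normalizer_iff''.1 hn.1 x).1 hx))
    rwa [show ((n⁻¹ * x * n)⁻¹ * (n * (n⁻¹ * x * n) * n⁻¹))⁻¹ = x⁻¹ * (n⁻¹ * x * n⁻¹⁻¹) by group]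
      at h2⟩

variable {Q}

/-- Two rows of the main theorem: an element acting as a three cycle without fixed points. -/
theorem exists_three [IsSimpleGroup G] (hG : ¬ IsMulCommutative G) (hO : Cfsg.oddCore G = ⊥)
    (hperf : commutator G = ⊤) (hab : ∀ x ∈ (Q : Subgroup G), ∀ y ∈ (Q : Subgroup G), x * y = y * x)
    {Y : Subgroup G} (hYQ : Y ≤ (Q : Subgroup G)) (hrel : Y.relIndex (Q : Subgroup G) = 4)
    (hY : ∀ n ∈ normalizer ((Q : Subgroup G) : Set G), ∀ y ∈ Y, n * y * n⁻¹ ∈ Y)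
    (hsq : ∀ x ∈ (Q : Subgroup G), x * x ∈ Y) :
    ∃ α ∈ normalizer ((Q : Subgroup G) : Set G),
      (∀ x ∈ (Q : Subgroup G), α * x * α⁻¹ = x → x = 1) ∧
      (∀ x ∈ (Q : Subgroup G), α * (α * (α * x * α⁻¹) * α⁻¹) * α⁻¹ = x) ∧
      ∀ n ∈ normalizer ((Q : Subgroup G) : Set G),
        (∀ x ∈ (Q : Subgroup G), n * x * n⁻¹ = x) ∨
        (∀ x ∈ (Q : Subgroup G), n * x * n⁻¹ = α * x * α⁻¹) ∨
        ∀ x ∈ (Q : Subgroup G), n * x * n⁻¹ = α * (α * x * α⁻¹) * α⁻¹ := by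
  haveI : Fact (Nat.Prime 2) := ⟨Nat.prime_two⟩
  set N := normalizer ((Q : Subgroup G) : Set G) with hN
  set N₀ := triv Q Y hY with hN₀
  have hQN₀ : (Q : Subgroup G) ≤ N₀ := fun q hq => ⟨le_normalizer hq, fun x hx => by
    rw [hab q hq x hx, mul_inv_cancel_right, inv_mul_cancel]; exact one_mem _⟩
  have hconj : ∀ {n x : G}, n ∈ N → x ∈ (Q : Subgroup G) → n * x * n⁻¹ ∈ (Q : Subgroup G) :=
    fun hn hx => (mem_normalizer_iff.1 hn _).1 hx
  -- the kernel acts trivially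
  have hker : ∀ n ∈ N₀, ∀ x ∈ (Q : Subgroup G), n * x * n⁻¹ = x := by
    have hN₀n : ∀ {m n : G}, m ∈ N → n ∈ N₀ → m * n * m⁻¹ ∈ N₀ := fun {m n} hm hn =>
      ⟨mul_mem (mul_mem hm hn.1) (inv_mem hm), fun x hx => by
        have := hY m hm _ (hn.2 _ ((mem_normalizer_iff''.1 hm x).1 hx))
        rwa [show m * ((m⁻¹ * x * m)⁻¹ * (n * (m⁻¹ * x * m) * n⁻¹)) * m⁻¹ =
          x⁻¹ * (m * n * m⁻¹ * x * (m * n * m⁻¹)⁻¹) by group] at this⟩
    obtain ⟨k, θ, hk, hθ1, hθQ, hθm, hθn, hθf, hθmod⟩ := exists_norm Q hab hQN₀ fun n hn => hn.1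
    set F : Subgroup G := (Q : Subgroup G) ⊓ centralizer (N₀ : Set G) with hF
    set T : Subgroup G :=
      closure {y | ∃ n ∈ N₀, ∃ x ∈ (Q : Subgroup G), y = x * (n * x * n⁻¹)⁻¹} with hT
    have hTQ : T ≤ (Q : Subgroup G) := (closure_le _).2 (by
      rintro _ ⟨n, hn, x, hx, rfl⟩
      exact mul_mem hx (inv_mem (hconj hn.1 hx)))
    have hTθ : ∀ x ∈ T, θ x = 1 := fun x hx => by
      induction hx using closure_induction with
      | mem y hy =>
        obtain ⟨n, hn, v, hv, rfl⟩ := hy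
        have hv' := hconj hn.1 hv
        have h1 := hθm _ (mul_mem hv (inv_mem hv')) _ hv'
        rw [inv_mul_cancel_right, (hθn n hn v hv).1] at h1
        exact mul_eq_right.1 h1.symm
      | one => exact hθ1
      | mul a b ha hb iha ihb => rw [hθm a (hTQ ha) b (hTQ hb), iha, ihb, one_mul]
      | inv a ha iha =>
        have := hθm a⁻¹ (inv_mem (hTQ ha)) a (hTQ ha)
        rw [inv_mul_cancel, hθ1, iha, mul_one] at this
        exact this.symm
    have hd : F ⊓ T = ⊥ := le_bot_iff.1 fun x hx => by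
      obtain ⟨hxF, hxT⟩ := mem_inf.1 hx
      have h1 : x ^ k = 1 := (hθf x hxF.1 fun n hn => by
        rw [mem_centralizer_iff.1 hxF.2 n hn, mul_inv_cancel_right]).symm.trans (hTθ x hxT)
      obtain ⟨i, hi⟩ := Q.2 ⟨x, hxF.1⟩
      have hi' : x ^ 2 ^ i = 1 := congrArg Subtype.val hi
      rw [mem_bot, ← orderOf_eq_one_iff]
      exact Nat.eq_one_of_dvd_coprimes (Nat.Coprime.pow_right i (Nat.coprime_two_right.2 hk))
        (orderOf_dvd_of_pow_eq_one h1) (orderOf_dvd_of_pow_eq_one hi')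
    have hFn : ∀ m ∈ N, ∀ x ∈ F, m * x * m⁻¹ ∈ F := fun m hm x hx =>
      ⟨hconj hm hx.1, mem_centralizer_iff.2 fun n hn => by
        have hc := mem_centralizer_iff.1 hx.2 _ (hN₀n (inv_mem hm) hn)
        calc n * (m * x * m⁻¹) = m * ((m⁻¹ * n * m⁻¹⁻¹) * x) * m⁻¹ := by group
          _ = m * (x * (m⁻¹ * n * m⁻¹⁻¹)) * m⁻¹ := by rw [hc]
          _ = m * x * m⁻¹ * n := by group⟩
    have hTn : ∀ m ∈ N, ∀ x ∈ T, m * x * m⁻¹ ∈ T := fun m hm => by
      have hle : T ≤ T.comap (MulAut.conj m).toMonoidHom := (closure_le _).2 (by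
        rintro _ ⟨n, hn, x, hx, rfl⟩
        refine Subgroup.subset_closure ⟨_, hN₀n hm hn, m * x * m⁻¹, hconj hm hx, ?_⟩
        show m * (x * (n * x * n⁻¹)⁻¹) * m⁻¹ = _
        group)
      exact fun x hx => hle hx
    rcases no_pair Q hab hG hO inf_le_left hTQ hFn hTn hd with e | e
    · exfalso
      obtain ⟨a, ha, haY⟩ : ∃ a ∈ (Q : Subgroup G), a ∉ Y := by
        by_contra hne
        push Not at hne
        rw [relIndex_eq_one.2 hne] at hrel
        omega
      have hθa : θ a ∈ F := ⟨hθQ a ha, mem_centralizer_iff.2 fun n hn =>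
        mul_inv_eq_iff_eq_mul.1 (hθn n hn a ha).2⟩
      rw [show F = ⊥ from e, mem_bot] at hθa
      have h1 := hθmod Y a ha fun n hn => hn.2 a ha
      rw [hθa, mul_one, inv_mem_iff] at h1
      obtain ⟨j, rfl⟩ := hk
      rw [pow_succ, pow_mul, pow_two] at h1
      exact haY ((Subgroup.mul_mem_cancel_left _ (pow_mem (hsq a ha) j)).1 h1)
    · intro n hn x hx
      have : x * (n * x * n⁻¹)⁻¹ ∈ T := Subgroup.subset_closure ⟨n, hn, x, hx, rfl⟩
      rw [e, mem_bot] at this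
      exact (mul_inv_eq_one.1 this).symm
  -- arithmetic modulo `Y`
  have etrans : ∀ {x y z : G}, x⁻¹ * y ∈ Y → y⁻¹ * z ∈ Y → x⁻¹ * z ∈ Y := fun {x y z} h1 h2 => by
    have := mul_mem h1 h2
    rwa [show x⁻¹ * y * (y⁻¹ * z) = x⁻¹ * z by group] at this
  have esymm : ∀ {x y : G}, x⁻¹ * y ∈ Y → y⁻¹ * x ∈ Y := fun {x y} h1 => by
    have := inv_mem h1
    rwa [show (x⁻¹ * y)⁻¹ = y⁻¹ * x by group] at this
  have econj : ∀ {n x y : G}, n ∈ N → x⁻¹ * y ∈ Y → (n * x * n⁻¹)⁻¹ * (n * y * n⁻¹) ∈ Y :=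
    fun {n x y} hn h1 => by
      have := hY n hn _ h1
      rwa [show n * (x⁻¹ * y) * n⁻¹ = (n * x * n⁻¹)⁻¹ * (n * y * n⁻¹) by group] at this
  have emul : ∀ {x y x' y' : G}, x ∈ (Q : Subgroup G) → y ∈ (Q : Subgroup G) →
      x' ∈ (Q : Subgroup G) → x⁻¹ * x' ∈ Y → y⁻¹ * y' ∈ Y → (x * y)⁻¹ * (x' * y') ∈ Y :=
    fun {x y x' y'} hx hy hx' h1 h2 => by
      have := mul_mem h1 h2
      rwa [show x⁻¹ * x' * (y⁻¹ * y') = (x * y)⁻¹ * (x' * y') by
        calc x⁻¹ * x' * (y⁻¹ * y') = (x⁻¹ * x' * y⁻¹) * y' := by group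
          _ = y⁻¹ * (x⁻¹ * x') * y' := by rw [hab _ (mul_mem (inv_mem hx) hx') _ (inv_mem hy)]
          _ = (x * y)⁻¹ * (x' * y') := by group] at this
  have esq : ∀ {x : G}, x ∈ (Q : Subgroup G) → (x⁻¹)⁻¹ * x ∈ Y := fun {x} hx => by
    rw [inv_inv]; exact hsq x hx
  have hpow : ∀ n ∈ N, n * n ∈ N₀ → n ∈ N₀ := by
    intro n hn h2
    haveI : ((Q : Subgroup G).subgroupOf N).Normal := Subgroup.normal_in_normalizer
    have hodd : ¬ 2 ∣ (Q : Subgroup G).relIndex N := fun e =>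
      Q.not_dvd_index (e.trans (relIndex_dvd_index_of_le le_normalizer))
    have hp := Subgroup.pow_index_mem ((Q : Subgroup G).subgroupOf N) ⟨n, hn⟩
    rw [mem_subgroupOf] at hp
    obtain ⟨j, hj⟩ : ∃ j, ((Q : Subgroup G).subgroupOf N).index = 2 * j + 1 :=
      ⟨(Q : Subgroup G).relIndex N / 2, by
        show (Q : Subgroup G).relIndex N = _
        omega⟩
    rw [hj] at hp
    have hp' : n ^ (2 * j + 1) ∈ (Q : Subgroup G) := hp
    have := mul_mem (inv_mem (hQN₀ hp')) (pow_mem h2 (j + 1))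
    rwa [show (n ^ (2 * j + 1))⁻¹ * (n * n) ^ (j + 1) = n by
      rw [← pow_two, ← pow_mul, show 2 * (j + 1) = (2 * j + 1) + 1 by ring, pow_succ n (2 * j + 1),
        inv_mul_cancel_left]] at this
  have hcoset : ∀ {a b w : G}, a ∈ (Q : Subgroup G) → b ∈ (Q : Subgroup G) → w ∈ (Q : Subgroup G) →
      a ∉ Y → b ∉ Y → a⁻¹ * b ∉ Y →
      w ∈ Y ∨ a⁻¹ * w ∈ Y ∨ b⁻¹ * w ∈ Y ∨ (a * b)⁻¹ * w ∈ Y := by
    intro a b w ha hb hw haY hbY habY
    refine cases4_aux hrel ha hb hw haY hbY habY (fun e => habY ?_) fun e => haY ?_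
    · have := mul_mem (inv_mem (hsq a ha)) e
      rwa [show (a * a)⁻¹ * (a * b) = a⁻¹ * b by group] at this
    · rwa [hab a ha b hb, inv_mul_cancel_left] at e
  -- fixing one coset means fixing all
  have hone : ∀ {n a : G}, n ∈ N → a ∈ (Q : Subgroup G) → a ∉ Y → a⁻¹ * (n * a * n⁻¹) ∈ Y →
      n ∈ N₀ := by
    intro n a hn ha haY hna
    refine hpow n hn ⟨mul_mem hn hn, fun x hx => ?_⟩
    rw [show n * n * x * (n * n)⁻¹ = n * (n * x * n⁻¹) * n⁻¹ by group]
    by_cases hxY : x ∈ Y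
    · exact mul_mem (inv_mem hxY) (hY n hn _ (hY n hn x hxY))
    by_cases hax : a⁻¹ * x ∈ Y
    · have h1 : ∀ {y}, a⁻¹ * y ∈ Y → a⁻¹ * (n * y * n⁻¹) ∈ Y := fun hy =>
        etrans hna (econj hn hy)
      exact etrans (esymm hax) (h1 (h1 hax))
    have hnx := hconj hn hx
    have hinv : ∀ {y}, n * y * n⁻¹ ∈ Y → y ∈ Y := fun {y} hy => by
      have := hY _ (inv_mem hn) _ hy
      rwa [show n⁻¹ * (n * y * n⁻¹) * n⁻¹⁻¹ = y by group] at this
    rcases hcoset ha hx hnx haY hxY hax with e | e | e | e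
    · exact absurd (hinv e) hxY
    · refine absurd (hinv ?_) hax
      have := etrans (esymm hna) e
      rwa [show (n * a * n⁻¹)⁻¹ * (n * x * n⁻¹) = n * (a⁻¹ * x) * n⁻¹ by group] at this
    · exact etrans e (econj hn e)
    · have h2 := econj hn e
      rw [show n * (a * x) * n⁻¹ = n * a * n⁻¹ * (n * x * n⁻¹) by group] at h2
      refine etrans ?_ h2
      refine etrans ?_ (emul ha (mul_mem ha hx) (hconj hn ha) hna e)
      rw [show x⁻¹ * (a * (a * x)) = x⁻¹ * (a * a) * x by group,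
        hab _ (inv_mem hx) _ (mul_mem ha ha), inv_mul_cancel_right]
      exact hsq a ha
  obtain ⟨α, hα, hαN₀⟩ : ∃ α ∈ N, α ∉ N₀ := by
    by_contra hne
    push Not at hne
    obtain ⟨a, ha, haY⟩ : ∃ a ∈ (Q : Subgroup G), a ∉ Y := by
      by_contra hne'
      push Not at hne'
      rw [relIndex_eq_one.2 hne'] at hrel
      omega
    exact haY (by
      rw [fixed_eq_one Q hab hperf ha fun n hn => hker n (hne n hn) a ha]
      exact one_mem _)
  obtain ⟨a, ha, haY⟩ : ∃ a ∈ (Q : Subgroup G), a ∉ Y := by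
    by_contra hne'
    push Not at hne'
    rw [relIndex_eq_one.2 hne'] at hrel
    omega
  set b := α * a * α⁻¹ with hb
  have hbQ := hconj hα ha
  have hbY : b ∉ Y := fun e => haY (by
    have := hY _ (inv_mem hα) _ e
    rwa [show α⁻¹ * b * α⁻¹⁻¹ = a by rw [hb]; group] at this)
  have habY : a⁻¹ * b ∉ Y := fun e => hαN₀ (hone hα ha haY e)
  have hαb : (a * b)⁻¹ * (α * b * α⁻¹) ∈ Y := by
    rcases hcoset ha hbQ (hconj hα hbQ) haY hbY habY with e | e | e | e
    · refine absurd ?_ hbY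
      have := hY _ (inv_mem hα) _ e
      rwa [show α⁻¹ * (α * b * α⁻¹) * α⁻¹⁻¹ = b by group] at this
    · refine absurd (hpow α hα (hone (mul_mem hα hα) ha haY ?_)) hαN₀
      rwa [show α * α * a * (α * α)⁻¹ = α * b * α⁻¹ by rw [hb]; group]
    · refine absurd (hone hα hbQ hbY e) hαN₀
    · exact e
  have hα3 : α * α * α ∈ N₀ := by
    refine hone (mul_mem (mul_mem hα hα) hα) ha haY ?_
    rw [show α * α * α * a * (α * α * α)⁻¹ = α * (α * b * α⁻¹) * α⁻¹ by rw [hb]; group]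
    refine etrans ?_ (econj hα hαb)
    rw [show α * (a * b) * α⁻¹ = b * (α * b * α⁻¹) by rw [hb]; group]
    refine etrans ?_ (emul hbQ (mul_mem ha hbQ) hbQ (by rw [inv_mul_cancel]; exact one_mem _) hαb)
    rw [hab a ha b hbQ, show a⁻¹ * (b * (b * a)) = a⁻¹ * (b * b) * a by group,
      hab _ (inv_mem ha) _ (mul_mem hbQ hbQ), inv_mul_cancel_right]
    exact hsq b hbQ
  have h3 : ∀ x ∈ (Q : Subgroup G), α * (α * (α * x * α⁻¹) * α⁻¹) * α⁻¹ = x := fun x hx => by
    rw [show α * (α * (α * x * α⁻¹) * α⁻¹) * α⁻¹ = α * α * α * x * (α * α * α)⁻¹ by group,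
      hker _ hα3 x hx]
  have hall : ∀ n ∈ N, (∀ x ∈ (Q : Subgroup G), n * x * n⁻¹ = x) ∨
      (∀ x ∈ (Q : Subgroup G), n * x * n⁻¹ = α * x * α⁻¹) ∨
      ∀ x ∈ (Q : Subgroup G), n * x * n⁻¹ = α * (α * x * α⁻¹) * α⁻¹ := by
    intro n hn
    rcases hcoset ha hbQ (hconj hn ha) haY hbY habY with e | e | e | e
    · refine absurd ?_ haY
      have := hY _ (inv_mem hn) _ e
      rwa [show n⁻¹ * (n * a * n⁻¹) * n⁻¹⁻¹ = a by group] at this
    · exact Or.inl (hker n (hone hn ha haY e))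
    · refine Or.inr (Or.inl fun x hx => ?_)
      have hmem : α⁻¹ * n ∈ N₀ := hone (mul_mem (inv_mem hα) hn) ha haY (by
        have := econj (inv_mem hα) e
        rwa [show α⁻¹ * b * α⁻¹⁻¹ = a by rw [hb]; group,
          show α⁻¹ * (n * a * n⁻¹) * α⁻¹⁻¹ = α⁻¹ * n * a * (α⁻¹ * n)⁻¹ by group] at this)
      conv_rhs => rw [← hker _ hmem x hx]
      group
    · refine Or.inr (Or.inr fun x hx => ?_)
      have hmem : (α * α)⁻¹ * n ∈ N₀ := hone (mul_mem (inv_mem (mul_mem hα hα)) hn) ha haY (by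
        have := econj (inv_mem (mul_mem hα hα)) (etrans (esymm hαb) e)
        rwa [show (α * α)⁻¹ * (α * b * α⁻¹) * (α * α)⁻¹⁻¹ = a by rw [hb]; group,
          show (α * α)⁻¹ * (n * a * n⁻¹) * (α * α)⁻¹⁻¹ = (α * α)⁻¹ * n * a * ((α * α)⁻¹ * n)⁻¹ by
            group] at this)
      conv_rhs => rw [← hker _ hmem x hx]
      group
  refine ⟨α, hα, fun x hx e => fixed_eq_one Q hab hperf hx fun n hn => ?_, h3, hall⟩
  rcases hall n hn with h' | h' | h'
  · exact h' x hx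
  · rw [h' x hx, e]
  · rw [h' x hx, e, e]

/-- The Sylow subgroup is a four group. -/
theorem four_group [IsSimpleGroup G] (hG : ¬ IsMulCommutative G)
    (hab : ∀ x ∈ (Q : Subgroup G), ∀ y ∈ (Q : Subgroup G), x * y = y * x)
    {Y : Subgroup G} (hYQ : Y ≤ (Q : Subgroup G)) (hrel : Y.relIndex (Q : Subgroup G) = 4)
    (hY : ∀ n ∈ normalizer ((Q : Subgroup G) : Set G), ∀ y ∈ Y, n * y * n⁻¹ ∈ Y)
    (hsq : ∀ x ∈ (Q : Subgroup G), x * x ∈ Y) :
    Nat.card (Q : Subgroup G) = 4 ∧ ∀ x ∈ (Q : Subgroup G), x * x = 1 := by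
  classical
  haveI : Fact (Nat.Prime 2) := ⟨Nat.prime_two⟩
  have hdvd4 : 4 ∣ Nat.card (Q : Subgroup G) := hrel ▸ relIndex_dvd_card ..
  have hperf : commutator G = ⊤ := by
    rcases (inferInstance : (commutator G).Normal).eq_bot_or_eq_top with e | e
    · have hc : center G = ⊤ := (commutator_eq_bot_iff_center_eq_top (G := G)).1 e
      exact absurd ⟨⟨fun a b => (mem_center_iff.1 (hc ▸ mem_top a) b).symm⟩⟩ hG
    · exact e
  have hO : Cfsg.oddCore G = ⊥ := by
    rcases (inferInstance : (Cfsg.oddCore G).Normal).eq_bot_or_eq_top with e | e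
    · exact e
    · have hodd : Odd (Nat.card G) := by
        have := InvChar.Core.odd_card_oddCore (G := G)
        rwa [e, Subgroup.card_top] at this
      have := hdvd4.trans (Subgroup.card_subgroup_dvd_card _)
      rw [Nat.odd_iff] at hodd
      omega
  obtain ⟨α, hα, hfree, h3, hall⟩ := exists_three hG hO hperf hab hYQ hrel hY hsq
  set f : G → G := fun x => α * x * α⁻¹ with hf
  have hfQ : ∀ {x}, x ∈ (Q : Subgroup G) → f x ∈ (Q : Subgroup G) := fun hx =>
    (mem_normalizer_iff.1 hα _).1 hx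
  have hfm : ∀ x y, f (x * y) = f x * f y := fun x y => by simp only [hf]; group
  have hf1 : f 1 = 1 := by simp only [hf]; group
  -- the triple
  have htriple : ∀ {x}, x ∈ (Q : Subgroup G) → x * f x * f (f x) = 1 := by
    intro x hx
    refine hfree _ (mul_mem (mul_mem hx (hfQ hx)) (hfQ (hfQ hx))) ?_
    show f (x * f x * f (f x)) = x * f x * f (f x)
    rw [hfm, hfm, show f (f (f x)) = x from h3 x hx, hab _ (mul_mem (hfQ hx) (hfQ (hfQ hx))) x hx,
      ← mul_assoc]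
  -- the invariant four group of an involution
  have hU : ∀ {u}, u ∈ (Q : Subgroup G) → u * u = 1 → ∃ U : Subgroup G, U ≤ (Q : Subgroup G) ∧
      (∀ x, x ∈ U ↔ x = 1 ∨ x = u ∨ x = f u ∨ x = u * f u) ∧
      ∀ n ∈ normalizer ((Q : Subgroup G) : Set G), ∀ x ∈ U, n * x * n⁻¹ ∈ U := by
    intro u hu hu2
    have hv2 : f u * f u = 1 := by rw [← hfm, hu2, hf1]
    have hvu : f u * u = u * f u := hab _ (hfQ hu) u hu
    have hff : f (f u) = u * f u := by
      have h1 := eq_inv_of_mul_eq_one_right (htriple hu)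
      rw [h1, mul_inv_rev, inv_eq_of_mul_eq_one_right hv2, inv_eq_of_mul_eq_one_right hu2, hvu]
    have h1 : u * (u * f u) = f u := by rw [← mul_assoc, hu2, one_mul]
    have h2 : f u * (u * f u) = u := by rw [← mul_assoc, hvu, mul_assoc, hv2, mul_one]
    have h3' : u * f u * u = f u := by rw [mul_assoc, hvu, h1]
    have h4 : u * f u * f u = u := by rw [mul_assoc, hv2, mul_one]
    have h5 : u * f u * (u * f u) = 1 := by rw [mul_assoc, h2, hu2]
    let U : Subgroup G :=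
      { carrier := {x | x = 1 ∨ x = u ∨ x = f u ∨ x = u * f u}
        one_mem' := Or.inl rfl
        mul_mem' := by
          rintro x y (rfl | rfl | rfl | rfl) (rfl | rfl | rfl | rfl) <;>
            (try simp only [one_mul, mul_one, hu2, hv2, h1, h2, h3', h4, h5]) <;>
            first
              | exact Or.inl rfl
              | exact Or.inr (Or.inl rfl)
              | exact Or.inr (Or.inr (Or.inl rfl))
              | exact Or.inr (Or.inr (Or.inr rfl))
              | exact Or.inr (Or.inr (Or.inr hvu))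
        inv_mem' := by
          rintro x (rfl | rfl | rfl | rfl)
          · simp
          · rw [inv_eq_of_mul_eq_one_right hu2]; exact Or.inr (Or.inl rfl)
          · rw [inv_eq_of_mul_eq_one_right hv2]; exact Or.inr (Or.inr (Or.inl rfl))
          · rw [inv_eq_of_mul_eq_one_right h5]; exact Or.inr (Or.inr (Or.inr rfl)) }
    have hfU : ∀ x ∈ U, f x ∈ U := by
      rintro x (rfl | rfl | rfl | rfl)
      · exact Or.inl hf1
      · exact Or.inr (Or.inr (Or.inl rfl))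
      · exact Or.inr (Or.inr (Or.inr hff))
      · exact Or.inr (Or.inl (by rw [hfm, hff, h2]))
    refine ⟨U, ?_, fun x => Iff.rfl, fun n hn x hx => ?_⟩
    · rintro x (rfl | rfl | rfl | rfl)
      exacts [one_mem _, hu, hfQ hu, mul_mem hu (hfQ hu)]
    · have hxQ : x ∈ (Q : Subgroup G) := by
        rcases hx with rfl | rfl | rfl | rfl
        exacts [one_mem _, hu, hfQ hu, mul_mem hu (hfQ hu)]
      rcases hall n hn with e | e | e
      · rw [e x hxQ]; exact hx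
      · rw [e x hxQ]; exact hfU x hx
      · rw [e x hxQ]; exact hfU _ (hfU x hx)
  obtain ⟨u, hu, hu1, hu2⟩ : ∃ u ∈ (Q : Subgroup G), u ≠ 1 ∧ u * u = 1 := by
    obtain ⟨⟨u, hu⟩, hu'⟩ := exists_prime_orderOf_dvd_card' (G := (Q : Subgroup G)) 2
      ((by norm_num : 2 ∣ 4).trans hdvd4)
    rw [Subgroup.orderOf_mk] at hu'
    exact ⟨u, hu, Cfsg.Agent.Involutions.Basic.ne_one hu', Cfsg.Agent.Involutions.Basic.inv_sq_one hu'⟩
  obtain ⟨U, hUQ, hUmem, hUn⟩ := hU hu hu2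
  have hinvol : ∀ w ∈ (Q : Subgroup G), w * w = 1 → w ∈ U := by
    intro w hw hw2
    by_contra hwU
    have hw1 : w ≠ 1 := fun e => hwU (e ▸ one_mem U)
    obtain ⟨V, hVQ, hVmem, hVn⟩ := hU hw hw2
    have hd : U ⊓ V = ⊥ := le_bot_iff.1 fun x hx => by
      obtain ⟨hxU, hxV⟩ := mem_inf.1 hx
      rcases (hVmem x).1 hxV with e | e | e | e
      · exact mem_bot.2 e
      · exact absurd (e ▸ hxU) hwU
      · refine absurd ?_ hwU
        have h1 := hUn α hα _ (hUn α hα x hxU)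
        subst e
        rwa [h3 w hw] at h1
      · refine absurd ?_ hwU
        have h1 := hUn α hα x hxU
        have h2 : f x = w := by
          subst e
          have e3 := eq_inv_of_mul_eq_one_right (htriple hw)
          rw [hfm, e3, mul_inv_rev, ← mul_assoc, mul_inv_cancel, one_mul,
            inv_eq_of_mul_eq_one_right hw2]
        exact h2 ▸ h1
    rcases no_pair Q hab hG hO hUQ hVQ hUn hVn hd with e | e
    · exact hu1 (mem_bot.1 (e ▸ (hUmem u).2 (Or.inr (Or.inl rfl))))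
    · exact hw1 (mem_bot.1 (e ▸ (hVmem w).2 (Or.inr (Or.inl rfl))))
  have hne : f u ≠ u := fun e => hu1 (hfree u hu e)
  have hfu1 : f u ≠ 1 := fun e => hu1 (conj_eq_one_iff.1 e)
  have hprod1 : u * f u ≠ 1 := fun e => hne (by
    rw [eq_inv_of_mul_eq_one_right e, inv_eq_of_mul_eq_one_right hu2])
  have hUset : (U : Set G) = (({1, u, f u, u * f u} : Finset G) : Set G) := by
    ext x; simp [hUmem]
  have n1 : (1 : G) ∉ ({u, f u, u * f u} : Finset G) := by simp [hu1.symm, hfu1.symm, hprod1.symm]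
  have n2 : u ∉ ({f u, u * f u} : Finset G) := by
    simp [hne.symm, show u ≠ u * f u from fun e => hfu1 (left_eq_mul.1 e)]
  have n3 : f u ∉ ({u * f u} : Finset G) := by
    simp [show f u ≠ u * f u from fun e => hu1 (right_eq_mul.1 e)]
  have hUcard : Nat.card U = 4 := by
    rw [← SetLike.coe_sort_coe, Nat.card_coe_set_eq, hUset, Set.ncard_coe_finset,
      Finset.card_insert_of_notMem n1, Finset.card_insert_of_notMem n2,
      Finset.card_insert_of_notMem n3, Finset.card_singleton]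
  by_cases hexp : ∀ x ∈ (Q : Subgroup G), x * x = 1
  · exact ⟨by
      rw [← le_antisymm hUQ fun x hx => hinvol x hx (hexp x hx), hUcard], hexp⟩
  exfalso
  push Not at hexp
  obtain ⟨v₀, hv₀, hv₀2⟩ := hexp
  -- squares
  let sq : (Q : Subgroup G) →* (Q : Subgroup G) := MonoidHom.mk' (fun x => x * x) fun x y =>
    Subtype.ext (by
      show (x : G) * y * (x * y) = x * x * (y * y)
      rw [mul_assoc (x : G) y, ← mul_assoc (y : G) x, hab y y.2 x x.2]; group)
  have hsqker : Nat.card sq.ker = 4 := by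
    rw [← hUcard]
    refine Nat.card_congr
      ⟨fun x => ⟨x.1.1, hinvol _ x.1.2 (congrArg Subtype.val (MonoidHom.mem_ker.1 x.2))⟩,
        fun x => ⟨⟨x.1, hUQ x.2⟩, MonoidHom.mem_ker.2 (Subtype.ext ?_)⟩, fun x => rfl, fun x => rfl⟩
    show (x : G) * x = 1
    have hv2 : f u * f u = 1 := by rw [← hfm, hu2, hf1]
    rcases (hUmem x).1 x.2 with e | e | e | e <;> rw [e]
    · exact one_mul 1
    · exact hu2
    · exact hv2
    · rw [mul_assoc, ← mul_assoc (f u) u, hab _ (hfQ hu) u hu, mul_assoc u (f u) (f u), hv2, mul_one,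
        hu2]
  have hsplit : Nat.card (Q : Subgroup G) = Nat.card sq.range * 4 := by
    rw [Subgroup.card_eq_card_quotient_mul_card_subgroup sq.ker, hsqker,
      Nat.card_congr (QuotientGroup.quotientKerEquivRange sq).toEquiv]
  obtain ⟨i, hi⟩ := IsPGroup.iff_card.1 (Q.2.to_subgroup sq.range)
  have hi2 : 2 ≤ i := by
    by_contra hlt
    push Not at hlt
    interval_cases i
    · rw [pow_zero, Subgroup.card_eq_one] at hi
      have : sq ⟨v₀, hv₀⟩ ∈ sq.range := ⟨_, rfl⟩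
      rw [hi, mem_bot] at this
      exact hv₀2 (congrArg Subtype.val this)
    · rw [pow_one, Nat.card_eq_two_iff' (1 : sq.range)] at hi
      obtain ⟨s, hs1, huniq⟩ := hi
      obtain ⟨r, hr⟩ := s.2
      have hsne : ((s : (Q : Subgroup G)) : G) ≠ 1 := fun e => hs1 (Subtype.ext (Subtype.ext e))
      refine hsne (hfree _ (s : (Q : Subgroup G)).2 ?_)
      have hmem : (⟨f ((s : (Q : Subgroup G)) : G), hfQ (s : (Q : Subgroup G)).2⟩ : (Q : Subgroup G)) ∈
          sq.range := by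
        refine ⟨⟨f (r : G), hfQ r.2⟩, Subtype.ext ?_⟩
        show f (r : G) * f (r : G) = f ((s : (Q : Subgroup G)) : G)
        rw [← hfm, ← hr]
        rfl
      have := huniq ⟨_, hmem⟩ fun e => hsne (conj_eq_one_iff.1
        (congrArg (fun t : sq.range => ((t : (Q : Subgroup G)) : G)) e))
      exact congrArg (fun t : sq.range => ((t : (Q : Subgroup G)) : G)) this
  have h16 : 16 ∣ Nat.card (Q : Subgroup G) := by
    rw [hsplit, hi]
    exact Nat.mul_dvd_mul (pow_dvd_pow 2 hi2) dvd_rfl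
  obtain ⟨w, hw2, hw4⟩ : ∃ w : (Q : Subgroup G), w ^ 2 ≠ 1 ∧ w ^ 4 = 1 := by
    obtain ⟨k, -, hk⟩ := (Nat.dvd_prime_pow Nat.prime_two).1
      (orderOf_dvd_of_pow_eq_one (Q.2 ⟨v₀, hv₀⟩).choose_spec)
    have hk2 : 2 ≤ k := by
      by_contra hlt
      push Not at hlt
      refine hv₀2 ?_
      have : (⟨v₀, hv₀⟩ : (Q : Subgroup G)) ^ 2 = 1 :=
        orderOf_dvd_iff_pow_eq_one.1 (hk ▸ (pow_dvd_pow 2 (Nat.lt_succ_iff.1 hlt) : 2 ^ k ∣ 2 ^ 1))
      rw [pow_two] at this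
      exact congrArg Subtype.val this
    refine ⟨(⟨v₀, hv₀⟩ : (Q : Subgroup G)) ^ 2 ^ (k - 2), fun e => ?_, ?_⟩
    · rw [← pow_mul, ← pow_succ, ← orderOf_dvd_iff_pow_eq_one, hk,
        Nat.pow_dvd_pow_iff_le_right (by norm_num)] at e
      omega
    · rw [← pow_mul, show 2 ^ (k - 2) * 4 = 2 ^ k by
        rw [show (4 : ℕ) = 2 ^ 2 from rfl, ← pow_add, Nat.sub_add_cancel hk2], ← hk,
        pow_orderOf_eq_one]
  have hthree : Nat.card {t : (Q : Subgroup G) // t ^ 2 = 1 ∧ t ≠ 1} = 3 := by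
    have hmem : ∀ t : G, t ∈ ({u, f u, u * f u} : Finset G) ↔ t ∈ U ∧ t ≠ 1 := fun t => by
      rw [hUmem]
      simp only [Finset.mem_insert, Finset.mem_singleton]
      constructor
      · intro ht
        refine ⟨Or.inr ht, fun e => ?_⟩
        subst e
        exact n1 (by simpa using ht)
      · rintro ⟨ht, ht1⟩
        exact ht.resolve_left ht1
    rw [Nat.card_congr (β := ↥({u, f u, u * f u} : Finset G))
      ⟨fun t => ⟨t.1.1, (hmem _).2 ⟨hinvol _ t.1.2 (by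
          have := congrArg Subtype.val t.2.1
          rwa [SubmonoidClass.coe_pow, pow_two] at this),
        fun e => t.2.2 (Subtype.ext e)⟩⟩,
        fun t => ⟨⟨t.1, hUQ ((hmem _).1 t.2).1⟩, Subtype.ext (by
          have hv2 : f u * f u = 1 := by rw [← hfm, hu2, hf1]
          rw [SubmonoidClass.coe_pow, pow_two]
          show (t : G) * t = 1
          rcases (hUmem t).1 ((hmem _).1 t.2).1 with e | e | e | e <;> rw [e]
          · exact one_mul 1
          · exact hu2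
          · exact hv2
          · rw [mul_assoc, ← mul_assoc (f u) u, hab _ (hfQ hu) u hu, mul_assoc u (f u) (f u), hv2,
              mul_one, hu2]),
          fun e => ((hmem _).1 t.2).2 (congrArg Subtype.val e)⟩, fun t => rfl, fun t => rfl⟩,
      Nat.card_eq_fintype_card, Fintype.card_coe,
      Finset.card_insert_of_notMem n2, Finset.card_insert_of_notMem n3, Finset.card_singleton]
  have hN : ∀ N : Subgroup G, N.Normal → Odd (Nat.card N) → N = ⊥ := fun N hn ho =>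
    le_bot_iff.1 (hO ▸ InvChar.Core.le_oddCore hn ho)
  haveI := Fintype.ofFinite G
  have hnormal := (Cfsg.Agent.Blocks.BrauerHomocyclic.normal_sylow Q hab hthree h16 w hw2 hw4 hN).1
  rcases hnormal.eq_bot_or_eq_top with e | e
  · exact hu1 (mem_bot.1 (e ▸ hu))
  · exact hG ⟨⟨fun a b => hab a (e ▸ mem_top a) b (e ▸ mem_top b)⟩⟩

end Cfsg.Agent.IndexFourCentre.Abelian
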