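import Mathlib

/-!
# 2-groups with centre of index 4

`P` is not commutative, its centre `Z` has index 4, and `c` is the nontrivial commutator.  The three
abelian subgroups of index 2 are `P ⊓ C(x)` for `x` outside `Z`.
-/

set_option autoImplicit false
set_option linter.style.haveILetI false
set_option linter.unusedSectionVars false

namespace Cfsg.Agent.IndexFourCentre

open Subgroup

universe u

variable {G : Type u} [Group G] [Finite G]

/-- `Z` is the centre of `P`, of index 4, and `c` the only nontrivial commutator. -/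
structure Setting (P Z : Subgroup G) (c : G) : Prop where
  Z_le : Z ≤ P
  central : ∀ z ∈ Z, ∀ x ∈ P, z * x = x * z
  mem_Z : ∀ z ∈ P, (∀ x ∈ P, z * x = x * z) → z ∈ Z
  rel : Z.relIndex P = 4
  c_mem : c ∈ Z
  c_ne : c ≠ 1
  c_sq : c * c = 1
  comm : ∀ x ∈ P, ∀ y ∈ P, x * y * x⁻¹ = y ∨ x * y * x⁻¹ = y * c

/-- The abelian subgroups of index 2. -/
def IsMax (P Z A : Subgroup G) : Prop :=
  ∃ x ∈ P, x ∉ Z ∧ A = P ⊓ centralizer ({x} : Set G)

section

variable {P Z : Subgroup G}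

theorem cases4_aux (hrel : Z.relIndex P = 4) {a b w : G}
    (ha : a ∈ P) (hb : b ∈ P) (hw : w ∈ P) (haZ : a ∉ Z) (hbZ : b ∉ Z) (habZ : a⁻¹ * b ∉ Z)
    (hab : a * b ∉ Z) (hab' : b⁻¹ * (a * b) ∉ Z) :
    w ∈ Z ∨ a⁻¹ * w ∈ Z ∨ b⁻¹ * w ∈ Z ∨ (a * b)⁻¹ * w ∈ Z := by
  classical
  by_contra hne
  push Not at hne
  obtain ⟨h1, h2, h3, h4⟩ := hne
  haveI := Fintype.ofFinite (↥P ⧸ Z.subgroupOf P)
  let q : ∀ x : G, x ∈ P → ↥P ⧸ Z.subgroupOf P := fun x hx => QuotientGroup.mk ⟨x, hx⟩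
  have hne : ∀ x (hx : x ∈ P) y (hy : y ∈ P), x⁻¹ * y ∉ Z → q x hx ≠ q y hy := fun x hx y hy hn e =>
    hn (by simpa [mem_subgroupOf] using QuotientGroup.eq.1 e)
  have hone : ∀ x, x ∉ Z → (1 : G)⁻¹ * x ∉ Z := fun x hx => by simpa using hx
  have e1 := hne 1 P.one_mem a ha (hone a haZ)
  have e2 := hne 1 P.one_mem b hb (hone b hbZ)
  have e3 := hne 1 P.one_mem (a * b) (mul_mem ha hb) (hone _ hab)
  have e4 := hne 1 P.one_mem w hw (hone w h1)
  have e5 := hne a ha b hb habZ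
  have e6 := hne a ha (a * b) (mul_mem ha hb) (by rwa [inv_mul_cancel_left])
  have e7 := hne a ha w hw h2
  have e8 := hne b hb (a * b) (mul_mem ha hb) hab'
  have e9 := hne b hb w hw h3
  have e10 := hne (a * b) (mul_mem ha hb) w hw h4
  have hfive : ({q 1 P.one_mem, q a ha, q b hb, q (a * b) (mul_mem ha hb), q w hw} :
      Finset (↥P ⧸ Z.subgroupOf P)).card = 5 := by
    simp [e1, e2, e3, e4, e5, e6, e7, e8, e9, e10]
  have h5 := Finset.card_le_univ ({q 1 P.one_mem, q a ha, q b hb, q (a * b) (mul_mem ha hb), q w hw} :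
      Finset (↥P ⧸ Z.subgroupOf P))
  rw [hfive, ← Nat.card_eq_fintype_card, show Nat.card (↥P ⧸ Z.subgroupOf P) = 4 from hrel] at h5
  omega

end

namespace Setting

variable {P Z : Subgroup G} {c : G} (h : Setting P Z c)
include h

theorem c_inv : c⁻¹ = c := inv_eq_of_mul_eq_one_right h.c_sq

theorem exists_notMem : ∃ x ∈ P, x ∉ Z := by
  by_contra hne
  push Not at hne
  have h4 := h.rel
  rw [relIndex_eq_one.2 hne] at h4
  omega

theorem conj_central {z x : G} (hz : z ∈ Z) (hx : x ∈ P) : x * z * x⁻¹ = z := by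
  rw [← h.central z hz x hx, mul_inv_cancel_right]

theorem sq_mem {x : G} (hx : x ∈ P) : x * x ∈ Z := by
  by_cases hxZ : x ∈ Z
  · exact mul_mem hxZ hxZ
  by_contra hne
  haveI : (Z.subgroupOf P).Normal := ⟨fun z hz g => by
    rw [mem_subgroupOf] at hz ⊢
    simp only [Subgroup.coe_mul, Subgroup.coe_inv]
    rwa [h.conj_central hz g.2]⟩
  have hpow := Subgroup.pow_index_mem (Z.subgroupOf P) ⟨x, hx⟩
  rw [show (Z.subgroupOf P).index = 4 from h.rel, mem_subgroupOf] at hpow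
  have hpow' : x ^ 4 ∈ Z := hpow
  have h3 : x * (x * x) ∉ Z := fun e => hxZ (by
    have := mul_mem hpow' (inv_mem e)
    rwa [show x ^ 4 * (x * (x * x))⁻¹ = x by group] at this)
  refine hxZ (h.mem_Z x hx fun w hw => ?_)
  rcases cases4_aux h.rel (a := x) (b := x * x) hx (mul_mem hx hx) hw hxZ hne
      (by rwa [inv_mul_cancel_left]) h3 (by
        rwa [show (x * x)⁻¹ * (x * (x * x)) = x by group]) with e | e | e | e
  · exact (h.central w e x hx).symm
  all_goals
    have hc := h.central _ e x hx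
  · calc x * w = x * (x * (x⁻¹ * w)) := by group
      _ = x * (x⁻¹ * w * x) := by rw [hc]
      _ = w * x := by group
  · calc x * w = (x * x) * (x * ((x * x)⁻¹ * w)) := by group
      _ = (x * x) * ((x * x)⁻¹ * w * x) := by rw [hc]
      _ = w * x := by group
  · calc x * w = (x * (x * x)) * (x * ((x * (x * x))⁻¹ * w)) := by group
      _ = (x * (x * x)) * ((x * (x * x))⁻¹ * w * x) := by rw [hc]
      _ = w * x := by group

theorem inv_mul_mem_iff {x y : G} (hx : x ∈ P) : x⁻¹ * y ∈ Z ↔ x * y ∈ Z := by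
  have e : x * y = (x * x) * (x⁻¹ * y) := by group
  rw [e]
  exact (Subgroup.mul_mem_cancel_left _ (h.sq_mem hx)).symm

/-- The four cosets. -/
theorem cases4 {a b w : G} (ha : a ∈ P) (hb : b ∈ P) (hw : w ∈ P) (haZ : a ∉ Z) (hbZ : b ∉ Z)
    (habZ : a⁻¹ * b ∉ Z) : w ∈ Z ∨ a⁻¹ * w ∈ Z ∨ b⁻¹ * w ∈ Z ∨ (a * b)⁻¹ * w ∈ Z := by
  refine cases4_aux h.rel ha hb hw haZ hbZ habZ (fun e => habZ ((h.inv_mul_mem_iff ha).2 e)) fun e => ?_
  rcases h.comm _ (inv_mem hb) _ ha with e' | e'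
  · rw [inv_inv] at e'
    rw [← mul_assoc, e'] at e
    exact haZ e
  · rw [inv_inv] at e'
    rw [← mul_assoc, e'] at e
    exact haZ ((Subgroup.mul_mem_cancel_right _ h.c_mem).1 e)

/-- Commuting elements outside `Z` lie in one coset. -/
theorem div_mem_of_comm {x y : G} (hx : x ∈ P) (hy : y ∈ P) (hxZ : x ∉ Z) (hyZ : y ∉ Z)
    (hxy : x * y = y * x) : x⁻¹ * y ∈ Z := by
  by_contra hne
  refine hxZ (h.mem_Z x hx fun w hw => ?_)
  rcases h.cases4 hx hy hw hxZ hyZ hne with e | e | e | e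
  · exact (h.central w e x hx).symm
  all_goals
    have hc := h.central _ e x hx
  · calc x * w = x * (x * (x⁻¹ * w)) := by group
      _ = x * (x⁻¹ * w * x) := by rw [hc]
      _ = w * x := by group
  · calc x * w = x * y * (y⁻¹ * w) := by group
      _ = y * (x * (y⁻¹ * w)) := by rw [hxy]; group
      _ = y * (y⁻¹ * w * x) := by rw [hc]
      _ = w * x := by group
  · calc x * w = x * (x * y) * ((x * y)⁻¹ * w) := by group
      _ = (x * y) * (x * ((x * y)⁻¹ * w)) := by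
        have hxxy : x * (x * y) = x * y * x := by rw [mul_assoc x y x, ← hxy]
        rw [hxxy, mul_assoc]
      _ = (x * y) * ((x * y)⁻¹ * w * x) := by rw [hc]
      _ = w * x := by group

theorem isMax_self {x : G} (hx : x ∈ P) (hxZ : x ∉ Z) :
    IsMax P Z (P ⊓ centralizer ({x} : Set G)) := ⟨x, hx, hxZ, rfl⟩

section

variable {A : Subgroup G} (hA : IsMax P Z A)
include hA

theorem max_le : A ≤ P := by obtain ⟨x, -, -, rfl⟩ := hA; exact inf_le_left

theorem Z_le_max : Z ≤ A := by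
  obtain ⟨x, hx, -, rfl⟩ := hA
  exact fun z hz => mem_inf.2 ⟨h.Z_le hz, mem_centralizer_singleton_iff.2 (h.central z hz x hx)⟩

theorem exists_gen : ∃ x ∈ A, x ∉ Z := by
  obtain ⟨x, hx, hxZ, rfl⟩ := hA
  exact ⟨x, mem_inf.2 ⟨hx, mem_centralizer_singleton_iff.2 rfl⟩, hxZ⟩

/-- Two elements of an abelian maximal subgroup outside `Z` differ by `Z`. -/
theorem div_mem {x y : G} (hx : x ∈ A) (hy : y ∈ A) (hxZ : x ∉ Z) (hyZ : y ∉ Z) : x⁻¹ * y ∈ Z := by
  obtain ⟨g, hg, hgZ, rfl⟩ := hA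
  have hx' := h.div_mem_of_comm hg hx.1 hgZ hxZ (mem_centralizer_singleton_iff.1 hx.2).symm
  have hy' := h.div_mem_of_comm hg hy.1 hgZ hyZ (mem_centralizer_singleton_iff.1 hy.2).symm
  have := mul_mem (inv_mem hx') hy'
  rwa [show (g⁻¹ * x)⁻¹ * (g⁻¹ * y) = x⁻¹ * y by group] at this

theorem max_comm {x y : G} (hx : x ∈ A) (hy : y ∈ A) : x * y = y * x := by
  by_cases hxZ : x ∈ Z
  · exact h.central x hxZ y (h.max_le hA hy)
  by_cases hyZ : y ∈ Z
  · exact (h.central y hyZ x (h.max_le hA hx)).symm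
  have hc := h.central _ (h.div_mem hA hx hy hxZ hyZ) x (h.max_le hA hx)
  calc x * y = x * (x * (x⁻¹ * y)) := by group
    _ = x * (x⁻¹ * y * x) := by rw [hc]
    _ = y * x := by group

/-- An element of `P` commuting with one element of `A` outside `Z` lies in `A`. -/
theorem mem_of_comm {x y : G} (hx : x ∈ A) (hxZ : x ∉ Z) (hy : y ∈ P) (hxy : x * y = y * x) :
    y ∈ A := by
  by_cases hyZ : y ∈ Z
  · exact h.Z_le_max hA hyZ
  have hd := h.Z_le_max hA (h.div_mem_of_comm (h.max_le hA hx) hy hxZ hyZ hxy)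
  have := mul_mem hx hd
  rwa [mul_inv_cancel_left] at this

theorem eq_inf_centralizer {x : G} (hx : x ∈ A) (hxZ : x ∉ Z) :
    A = P ⊓ centralizer ({x} : Set G) :=
  le_antisymm (fun _ hy => mem_inf.2 ⟨h.max_le hA hy,
      mem_centralizer_singleton_iff.2 (h.max_comm hA hy hx)⟩)
    fun _ hy => h.mem_of_comm hA hx hxZ hy.1 (mem_centralizer_singleton_iff.1 hy.2).symm

theorem eq_of_mem {B : Subgroup G} (hB : IsMax P Z B) {x : G} (hxA : x ∈ A) (hxB : x ∈ B)
    (hxZ : x ∉ Z) : A = B := by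
  rw [h.eq_inf_centralizer hA hxA hxZ, h.eq_inf_centralizer hB hxB hxZ]

theorem exists_notMem_max : ∃ q ∈ P, q ∉ A := by
  obtain ⟨x, hx, hxZ⟩ := h.exists_gen hA
  by_contra hne
  push Not at hne
  exact hxZ (h.mem_Z x (h.max_le hA hx) fun w hw => h.max_comm hA hx (hne w hw))

/-- Outside an abelian maximal subgroup there is one coset. -/
theorem coset_max {q w : G} (hq : q ∈ P) (hqA : q ∉ A) (hw : w ∈ P) (hwA : w ∉ A) :
    q⁻¹ * w ∈ A := by
  obtain ⟨x, hx, hxZ⟩ := h.exists_gen hA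
  have hqZ : q ∉ Z := fun e => hqA (h.Z_le_max hA e)
  have hxq : x⁻¹ * q ∉ Z := fun e => hqA (by
    have := mul_mem hx (h.Z_le_max hA e)
    rwa [mul_inv_cancel_left] at this)
  rcases h.cases4 (h.max_le hA hx) hq hw hxZ hqZ hxq with e | e | e | e
  · exact absurd (h.Z_le_max hA e) hwA
  · refine absurd ?_ hwA
    have := mul_mem hx (h.Z_le_max hA e)
    rwa [mul_inv_cancel_left] at this
  · exact h.Z_le_max hA e
  · rcases h.comm _ (inv_mem hq) _ (h.max_le hA hx) with e' | e'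
    all_goals
      rw [inv_inv] at e'
      rw [show q⁻¹ * w = q⁻¹ * x * q * ((x * q)⁻¹ * w) by group, e']
    · exact mul_mem hx (h.Z_le_max hA e)
    · exact mul_mem (mul_mem hx (h.Z_le_max hA h.c_mem)) (h.Z_le_max hA e)

theorem max_relIndex : A.relIndex P = 2 := by
  obtain ⟨q, hq, hqA⟩ := h.exists_notMem_max hA
  show (A.subgroupOf P).index = 2
  rw [Subgroup.index_eq_two_iff]
  refine ⟨⟨q, hq⟩, fun b => ?_⟩
  simp only [mem_subgroupOf, Subgroup.coe_mul]
  have hxor : ∀ {p r : Prop}, (p ∧ ¬r ∨ r ∧ ¬p) → Xor p r := fun h => h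
  apply hxor
  by_cases hb : (b : G) ∈ A
  · exact Or.inr ⟨hb, fun e => hqA ((Subgroup.mul_mem_cancel_left _ hb).1 e)⟩
  · refine Or.inl ⟨?_, hb⟩
    have h1 := h.coset_max hA hq hqA (inv_mem b.2) fun e => hb (by simpa using inv_mem e)
    have h2 := inv_mem h1
    rwa [show (q⁻¹ * (b : G)⁻¹)⁻¹ = b * q by group] at h2

theorem card_max : Nat.card P = 2 * Nat.card A := by
  have h2 := relIndex_mul_relIndex (⊥ : Subgroup G) A P bot_le (h.max_le hA)
  rw [relIndex_bot_left, relIndex_bot_left, h.max_relIndex hA] at h2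
  omega

end

/-- A commutative subgroup of index 2 is one of the three. -/
theorem isMax_of_card {E : Subgroup G} (hle : E ≤ P) (hcard : Nat.card P = 2 * Nat.card E)
    (hab : ∀ x ∈ E, ∀ y ∈ E, x * y = y * x) : IsMax P Z E := by
  have hrel : E.relIndex P = 2 := by
    have h2 := relIndex_mul_relIndex (⊥ : Subgroup G) E P bot_le hle
    rw [relIndex_bot_left, relIndex_bot_left, hcard, mul_comm 2] at h2
    exact Nat.eq_of_mul_eq_mul_left Nat.card_pos h2
  have hidx : (E.subgroupOf P).index = 2 := hrel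
  have hE : ∀ z w : G, z ∈ P → z ∉ E → w ∈ P → w ∉ E → z * w ∈ E := fun z w hz hzE hw hwE => by
    have := (Subgroup.mul_mem_iff_of_index_two hidx (a := ⟨z, hz⟩) (b := ⟨w, hw⟩))
    simp only [mem_subgroupOf, Subgroup.coe_mul] at this
    exact this.2 (iff_of_false hzE hwE)
  have hZE : Z ≤ E := fun z hz => by
    by_contra hzE
    obtain ⟨x, hx, hxZ⟩ := h.exists_notMem
    refine hxZ (h.mem_Z x hx fun w hw => ?_)
    -- every element is in `E` or `z⁻¹ E`
    have key : ∀ v ∈ P, ∃ v' ∈ E, v = v' ∨ v = z⁻¹ * v' := fun v hv => by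
      by_cases hvE : v ∈ E
      · exact ⟨v, hvE, Or.inl rfl⟩
      · exact ⟨z * v, hE z v (h.Z_le hz) hzE hv hvE, Or.inr (by group)⟩
    obtain ⟨x', hx', hx''⟩ := key x hx
    obtain ⟨w', hw', hw''⟩ := key w hw
    have hz' : ∀ v ∈ P, z⁻¹ * v = v * z⁻¹ := fun v hv => h.central _ (inv_mem hz) v hv
    have c1 := hab x' hx' w' hw'
    rcases hx'' with rfl | rfl <;> rcases hw'' with rfl | rfl
    · exact c1
    · calc x * (z⁻¹ * w') = (z⁻¹ * x) * w' := by rw [hz' x hx]; group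
        _ = z⁻¹ * w' * x := by rw [mul_assoc, c1, ← mul_assoc]
    · calc z⁻¹ * x' * w = z⁻¹ * (w * x') := by rw [mul_assoc, c1]
        _ = w * (z⁻¹ * x') := by rw [← mul_assoc, hz' w hw, mul_assoc]
    · calc z⁻¹ * x' * (z⁻¹ * w') = z⁻¹ * z⁻¹ * (x' * w') := by
            rw [show z⁻¹ * x' * (z⁻¹ * w') = z⁻¹ * (x' * z⁻¹) * w' by group, ← hz' x' (hle hx')]
            group
        _ = z⁻¹ * w' * (z⁻¹ * x') := by
            rw [c1, show z⁻¹ * w' * (z⁻¹ * x') = z⁻¹ * (w' * z⁻¹) * x' by group, ← hz' w' (hle hw')]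
            group
  obtain ⟨x, hxE, hxZ⟩ : ∃ x ∈ E, x ∉ Z := by
    by_contra hne
    push Not at hne
    have h4 := h.rel
    rw [le_antisymm hZE hne, hrel] at h4
    omega
  refine ⟨x, hle hxE, hxZ, le_antisymm
    (fun y hy => mem_inf.2 ⟨hle hy, mem_centralizer_singleton_iff.2 (hab y hy x hxE)⟩) ?_⟩
  intro y hy
  by_cases hyZ : y ∈ Z
  · exact hZE hyZ
  have := mul_mem hxE (hZE (h.div_mem_of_comm (hle hxE) hy.1 hxZ hyZ
    (mem_centralizer_singleton_iff.1 hy.2).symm))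
  rwa [mul_inv_cancel_left] at this

end Setting

end Cfsg.Agent.IndexFourCentre
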