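import Cfsg.Agent.Lib.IndexFourCentre.Basic
import Cfsg.Agent.Lib.StronglyClosedFour.Basic
import Cfsg.Agent.Lib.Transfer.Fusion

/-!
# Fusion with a Sylow 2-subgroup whose centre has index 4

Every invariant of the normalisers of `P` and of its abelian subgroups of index 2 is an invariant
of fusion.
-/

set_option autoImplicit false
set_option linter.style.haveILetI false
set_option linter.unusedSectionVars false

namespace Cfsg.Agent.IndexFourCentre

open Subgroup
open Cfsg.Agent.StronglyClosedFour (exists_conj_into)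
open scoped Pointwise

universe u v

variable {G : Type u} [Group G] [Finite G] {P : Sylow 2 G} {Z : Subgroup G} {c : G}

namespace Setting

variable (h : Setting (P : Subgroup G) Z c)
include h

theorem norm_Z {n z : G} (hn : n ∈ normalizer ((P : Subgroup G) : Set G)) (hz : z ∈ Z) :
    n * z * n⁻¹ ∈ Z := by
  refine h.mem_Z _ ((mem_normalizer_iff.1 hn z).1 (h.Z_le hz)) fun x hx => ?_
  have hx' : n⁻¹ * x * n ∈ (P : Subgroup G) := (mem_normalizer_iff''.1 hn x).1 hx
  calc n * z * n⁻¹ * x = n * (z * (n⁻¹ * x * n)) * n⁻¹ := by group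
    _ = n * ((n⁻¹ * x * n) * z) * n⁻¹ := by rw [h.central z hz _ hx']
    _ = x * (n * z * n⁻¹) := by group

theorem exists_moves : ∃ x ∈ (P : Subgroup G), ∃ y ∈ (P : Subgroup G), x * y * x⁻¹ = y * c := by
  by_contra hne
  push Not at hne
  obtain ⟨x, hx, hxZ⟩ := h.exists_notMem
  refine hxZ (h.mem_Z x hx fun y hy => ?_)
  exact mul_inv_eq_iff_eq_mul.1 ((h.comm x hx y hy).resolve_right (hne x hx y hy))

theorem norm_c {n : G} (hn : n ∈ normalizer ((P : Subgroup G) : Set G)) : n * c * n⁻¹ = c := by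
  obtain ⟨x, hx, y, hy, e⟩ := h.exists_moves
  have hc : n * c * n⁻¹ ≠ 1 := fun e1 => h.c_ne (conj_eq_one_iff.1 e1)
  have hx' := (mem_normalizer_iff.1 hn x).1 hx
  have hy' := (mem_normalizer_iff.1 hn y).1 hy
  have e' : n * x * n⁻¹ * (n * y * n⁻¹) * (n * x * n⁻¹)⁻¹ = n * y * n⁻¹ * (n * c * n⁻¹) := by
    calc n * x * n⁻¹ * (n * y * n⁻¹) * (n * x * n⁻¹)⁻¹ = n * (x * y * x⁻¹) * n⁻¹ := by group
      _ = _ := by rw [e]; group
  rcases h.comm _ hx' _ hy' with e1 | e1
  · exact absurd (mul_eq_left.1 (e'.symm.trans e1)) hc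
  · exact mul_left_cancel (e'.symm.trans e1)

theorem le_norm_max {A : Subgroup G} (hA : IsMax (P : Subgroup G) Z A) :
    (P : Subgroup G) ≤ normalizer (A : Set G) := fun q hq => mem_normalizer_fintype fun x hx => by
  rcases h.comm q hq x (h.max_le hA hx) with e | e
  · show q * x * q⁻¹ ∈ A
    rw [e]; exact hx
  · show q * x * q⁻¹ ∈ A
    rw [e]; exact mul_mem hx (h.Z_le_max hA h.c_mem)

/-- The abelian subgroups of index 2 are permuted by conjugations into `P`. -/
theorem map_isMax {A : Subgroup G} (hA : IsMax (P : Subgroup G) Z A) {g : G}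
    (hg : ∀ x ∈ A, g * x * g⁻¹ ∈ (P : Subgroup G)) :
    IsMax (P : Subgroup G) Z (A.map (MulAut.conj g).toMonoidHom) := by
  refine h.isMax_of_card ?_ ?_ ?_
  · rintro _ ⟨x, hx, rfl⟩; exact hg x hx
  · rw [card_map_of_injective (MulAut.conj g).injective]; exact h.card_max hA
  · rintro _ ⟨x, hx, rfl⟩ _ ⟨y, hy, rfl⟩
    rw [← map_mul, ← map_mul, h.max_comm hA hx hy]

/-- A conjugation of `A` into `P` comes from `N(P)` and `N(A)`. -/
theorem exists_norm_split {A : Subgroup G} (hA : IsMax (P : Subgroup G) Z A) {g : G}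
    (hg : ∀ x ∈ A, g * x * g⁻¹ ∈ (P : Subgroup G)) :
    ∃ n ∈ normalizer ((P : Subgroup G) : Set G), n⁻¹ * g ∈ normalizer (A : Set G) := by
  haveI : Fact (Nat.Prime 2) := ⟨Nat.prime_two⟩
  set B := A.map (MulAut.conj g).toMonoidHom with hB
  have hBmax := h.map_isMax hA hg
  have hle : ((g • P : Sylow 2 G) : Subgroup G) ≤ normalizer (B : Set G) := by
    intro y hy
    rw [Sylow.coe_subgroup_smul] at hy
    obtain ⟨q, hq, rfl⟩ := hy
    refine mem_normalizer_fintype ?_
    rintro _ ⟨x, hx, rfl⟩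
    refine ⟨q * x * q⁻¹, (mem_normalizer_iff.1 (h.le_norm_max hA hq) x).1 hx, ?_⟩
    show g * (q * x * q⁻¹) * g⁻¹ = g * q * g⁻¹ * (g * x * g⁻¹) * (g * q * g⁻¹)⁻¹
    group
  obtain ⟨k, hk⟩ := MulAction.exists_smul_eq (normalizer (B : Set G))
    ((g • P).subtype hle) (P.subtype (h.le_norm_max hBmax))
  have hk' : (k : G) • (g • P) = P := by
    simp_rw [Sylow.smul_subtype, Subgroup.smul_def] at hk
    exact Sylow.subtype_injective hk
  rw [smul_smul, Sylow.smul_eq_iff_mem_normalizer] at hk'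
  refine ⟨(k : G) * g, hk', mem_normalizer_fintype fun x hx => ?_⟩
  obtain ⟨y, hy, e⟩ := (mem_normalizer_iff''.1 k.2 (g * x * g⁻¹)).1 (mem_map_of_mem _ hx)
  show ((k : G) * g)⁻¹ * g * x * (((k : G) * g)⁻¹ * g)⁻¹ ∈ A
  have e' : g * y * g⁻¹ = (k : G)⁻¹ * (g * x * g⁻¹) * k := e
  rw [show ((k : G) * g)⁻¹ * g * x * (((k : G) * g)⁻¹ * g)⁻¹
      = g⁻¹ * ((k : G)⁻¹ * (g * x * g⁻¹) * k) * g by group, ← e',
    show g⁻¹ * (g * y * g⁻¹) * g = y by group]
  exact hy

theorem center_fusion {u g : G} (hu : u ∈ Z) (hv : g * u * g⁻¹ ∈ Z) :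
    ∃ n ∈ normalizer ((P : Subgroup G) : Set G), n * u * n⁻¹ = g * u * g⁻¹ := by
  haveI : Fact (Nat.Prime 2) := ⟨Nat.prime_two⟩
  obtain ⟨n, hn, e⟩ := Cfsg.Agent.Transfer.Fusion.burnside_fusion_set P (X := {u})
    (Y := {g * u * g⁻¹})
    (fun x hx => by rw [Set.image_singleton, h.conj_central hu hx])
    (fun x hx => by rw [Set.image_singleton, h.conj_central hv hx])
    (g := g) (Set.image_singleton ..)
  exact ⟨n, hn, Set.singleton_injective (by rw [← e, Set.image_singleton])⟩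

/-- Invariants of the normalisers are invariants of fusion. -/
theorem fusion_invariant {α : Type v} (Φ : G → α)
    (hN : ∀ n ∈ normalizer ((P : Subgroup G) : Set G), ∀ u ∈ (P : Subgroup G), Φ (n * u * n⁻¹) = Φ u)
    (hA : ∀ A, IsMax (P : Subgroup G) Z A → ∀ m ∈ normalizer (A : Set G), ∀ u ∈ A,
      Φ (m * u * m⁻¹) = Φ u) :
    ∀ (g : G), ∀ u ∈ (P : Subgroup G), g * u * g⁻¹ ∈ (P : Subgroup G) → Φ (g * u * g⁻¹) = Φ u := by
  haveI : Fact (Nat.Prime 2) := ⟨Nat.prime_two⟩
  set N := normalizer ((P : Subgroup G) : Set G)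
  -- a conjugate in `Z` is reached by the normalisers
  have hcentral : ∀ (g : G), ∀ u ∈ (P : Subgroup G), g * u * g⁻¹ ∈ Z → Φ (g * u * g⁻¹) = Φ u := by
    intro g u hu hv
    by_cases huZ : u ∈ Z
    · obtain ⟨n, hn, e⟩ := h.center_fusion huZ hv
      rw [← e]; exact hN n hn u hu
    set A := (P : Subgroup G) ⊓ centralizer ({u} : Set G) with hAdef
    have hAmax := h.isMax_self hu huZ
    have huA : u ∈ A := mem_inf.2 ⟨hu, mem_centralizer_singleton_iff.2 rfl⟩
    set v := g * u * g⁻¹ with hvdef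
    have hPC : (P : Subgroup G) ≤ centralizer ({v} : Set G) := fun x hx =>
      mem_centralizer_singleton_iff.2 (h.central v hv x hx).symm
    obtain ⟨k, hk, hkP⟩ := exists_conj_into (K := centralizer ({v} : Set G))
      (T := (P : Subgroup G)) (B := A.map (MulAut.conj g).toMonoidHom) ((P.2.to_le (h.max_le hAmax)).map _) (by
        rintro _ ⟨x, hx, rfl⟩
        rw [mem_centralizer_singleton_iff]
        show g * x * g⁻¹ * (g * u * g⁻¹) = g * u * g⁻¹ * (g * x * g⁻¹)
        calc g * x * g⁻¹ * (g * u * g⁻¹) = g * (x * u) * g⁻¹ := by group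
          _ = g * (u * x) * g⁻¹ := by rw [h.max_comm hAmax hx huA]
          _ = g * u * g⁻¹ * (g * x * g⁻¹) := by group)
      (by
        rw [Nat.odd_iff]
        have h1 : ¬ 2 ∣ (P : Subgroup G).relIndex (centralizer ({v} : Set G)) := fun e =>
          P.not_dvd_index (e.trans (relIndex_dvd_index_of_le hPC))
        omega)
    have hgk : ∀ x ∈ A, k⁻¹ * g * x * (k⁻¹ * g)⁻¹ ∈ (P : Subgroup G) := fun x hx => by
      have h1 := hkP _ (mem_map_of_mem _ hx)
      change k⁻¹ * (g * x * g⁻¹) * k ∈ (P : Subgroup G) at h1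
      rwa [show k⁻¹ * g * x * (k⁻¹ * g)⁻¹ = k⁻¹ * (g * x * g⁻¹) * k by group]
    obtain ⟨n, hn, hm⟩ := h.exists_norm_split hAmax hgk
    have hkv : k⁻¹ * g * u * (k⁻¹ * g)⁻¹ = v := by
      rw [show k⁻¹ * g * u * (k⁻¹ * g)⁻¹ = k⁻¹ * v * k by rw [hvdef]; group, mul_assoc,
        ← mem_centralizer_singleton_iff.1 hk, inv_mul_cancel_left]
    set m := n⁻¹ * (k⁻¹ * g) with hmdef
    have e : n * (m * u * m⁻¹) * n⁻¹ = v := by rw [← hkv, hmdef]; group
    rw [← e, hN n hn _ (h.max_le hAmax ((mem_normalizer_iff.1 hm u).1 huA)),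
      hA A hAmax m hm u huA]
  intro g u hu hv
  by_cases hc : ∃ g', g' * u * g'⁻¹ ∈ Z
  · obtain ⟨g', hg'⟩ := hc
    have h1 := hcentral g' u hu hg'
    have hback : g' * g⁻¹ * (g * u * g⁻¹) * (g' * g⁻¹)⁻¹ = g' * u * g'⁻¹ := by group
    have h2 := hcentral (g' * g⁻¹) _ hv (hback.symm ▸ hg')
    rw [hback] at h2
    exact h2.symm.trans h1
  push Not at hc
  set v := g * u * g⁻¹ with hvdef
  have huZ : u ∉ Z := fun e => hc 1 (by simpa using e)
  have hvZ : v ∉ Z := hc g
  set A := (P : Subgroup G) ⊓ centralizer ({u} : Set G) with hAdef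
  set B := (P : Subgroup G) ⊓ centralizer ({v} : Set G) with hBdef
  have hAmax := h.isMax_self hu huZ
  have hBmax := h.isMax_self hv hvZ
  have huA : u ∈ A := mem_inf.2 ⟨hu, mem_centralizer_singleton_iff.2 rfl⟩
  -- `B` is a Sylow subgroup of `C(v)`
  have hodd : Odd (B.relIndex (centralizer ({v} : Set G))) := by
    obtain ⟨T, hT⟩ := IsPGroup.exists_le_sylow ((P.2.to_le (h.max_le hBmax)).of_equiv
      (subgroupOfEquivOfLe (inf_le_right : B ≤ centralizer ({v} : Set G))).symm)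
    have hTp : IsPGroup 2 ((T : Subgroup (centralizer ({v} : Set G))).map
      (centralizer ({v} : Set G)).subtype) := T.2.map _
    obtain ⟨Q, hQ⟩ := hTp.exists_le_sylow
    have hcard : Nat.card T ≤ Nat.card B := by
      by_contra hlt
      push Not at hlt
      have hTQ : Nat.card T ≤ Nat.card (Q : Subgroup G) := by
        rw [← card_map_of_injective (centralizer ({v} : Set G)).subtype_injective]
        exact Subgroup.card_le_of_le hQ
      have hQP : Nat.card (Q : Subgroup G) = Nat.card (P : Subgroup G) := by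
        rw [Q.card_eq_multiplicity, P.card_eq_multiplicity]
      obtain ⟨i, hi⟩ := IsPGroup.iff_card.1 T.2
      obtain ⟨j, hj⟩ := IsPGroup.iff_card.1 P.2
      have hB : Nat.card (P : Subgroup G) = 2 * Nat.card B := h.card_max hBmax
      have hij : j ≤ i := by
        by_contra hlt'
        push Not at hlt'
        have h2i : Nat.card T * 2 ≤ Nat.card (P : Subgroup G) := by
          rw [hi, hj, ← pow_succ]
          exact Nat.pow_le_pow_right two_pos hlt'
        omega
      have he : (T : Subgroup (centralizer ({v} : Set G))).map (centralizer ({v} : Set G)).subtype =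
          (Q : Subgroup G) := Subgroup.eq_of_le_of_card_ge hQ (by
        rw [card_map_of_injective (centralizer ({v} : Set G)).subtype_injective, hi, hQP, hj]
        exact Nat.pow_le_pow_right two_pos hij)
      obtain ⟨a, ha⟩ := MulAction.exists_smul_eq G Q P
      have hmem : ∀ x ∈ (Q : Subgroup G), a * x * a⁻¹ ∈ (P : Subgroup G) := fun x hx => by
        rw [← ha, Sylow.coe_subgroup_smul]
        exact ⟨x, hx, rfl⟩
      have hvQ : v ∈ (Q : Subgroup G) := hQ ⟨⟨v, mem_centralizer_singleton_iff.2 rfl⟩,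
        hT (mem_subgroupOf.2 (mem_inf.2 ⟨hv, mem_centralizer_singleton_iff.2 rfl⟩)), rfl⟩
      refine hc (a * g) ?_
      rw [show a * g * u * (a * g)⁻¹ = a * v * a⁻¹ by rw [hvdef]; group]
      refine h.mem_Z _ (hmem v hvQ) fun x hx => ?_
      have hx' : a⁻¹ * x * a ∈ (Q : Subgroup G) := by
        rw [← ha, Sylow.coe_subgroup_smul] at hx
        obtain ⟨y, hy, rfl⟩ := hx
        show a⁻¹ * (a * y * a⁻¹) * a ∈ (Q : Subgroup G)
        rw [show a⁻¹ * (a * y * a⁻¹) * a = y by group]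
        exact hy
      rw [← he] at hx'
      obtain ⟨⟨y, hy⟩, -, e⟩ := hx'
      have e' : y = a⁻¹ * x * a := e
      have hyv := mem_centralizer_singleton_iff.1 hy
      subst e'
      calc a * v * a⁻¹ * x = a * (v * (a⁻¹ * x * a)) * a⁻¹ := by group
        _ = a * ((a⁻¹ * x * a) * v) * a⁻¹ := by rw [hyv]
        _ = x * (a * v * a⁻¹) := by group
    have he : (T : Subgroup (centralizer ({v} : Set G))) = B.subgroupOf _ :=
      (Subgroup.eq_of_le_of_card_ge hT (by
        rw [Nat.card_congr (subgroupOfEquivOfLe (inf_le_right : B ≤ centralizer ({v} : Set G))).toEquiv]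
        exact hcard)).symm
    rw [relIndex, ← he, Nat.odd_iff]
    have := T.not_dvd_index
    omega
  obtain ⟨k, hk, hkB⟩ := exists_conj_into (K := centralizer ({v} : Set G))
    (B := A.map (MulAut.conj g).toMonoidHom) ((P.2.to_le (h.max_le hAmax)).map _) (by
      rintro _ ⟨x, hx, rfl⟩
      rw [mem_centralizer_singleton_iff]
      show g * x * g⁻¹ * (g * u * g⁻¹) = g * u * g⁻¹ * (g * x * g⁻¹)
      calc g * x * g⁻¹ * (g * u * g⁻¹) = g * (x * u) * g⁻¹ := by group
        _ = g * (u * x) * g⁻¹ := by rw [h.max_comm hAmax hx huA]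
        _ = g * u * g⁻¹ * (g * x * g⁻¹) := by group) hodd
  have hgk : ∀ x ∈ A, k⁻¹ * g * x * (k⁻¹ * g)⁻¹ ∈ (P : Subgroup G) := fun x hx => by
    have h1 := (hkB _ (mem_map_of_mem _ hx)).1
    change k⁻¹ * (g * x * g⁻¹) * k ∈ (P : Subgroup G) at h1
    rwa [show k⁻¹ * g * x * (k⁻¹ * g)⁻¹ = k⁻¹ * (g * x * g⁻¹) * k by group]
  obtain ⟨n, hn, hm⟩ := h.exists_norm_split hAmax hgk
  have hkv : k⁻¹ * g * u * (k⁻¹ * g)⁻¹ = v := by
    rw [show k⁻¹ * g * u * (k⁻¹ * g)⁻¹ = k⁻¹ * v * k by rw [hvdef]; group, mul_assoc,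
      ← mem_centralizer_singleton_iff.1 hk, inv_mul_cancel_left]
  set m := n⁻¹ * (k⁻¹ * g) with hmdef
  have e : n * (m * u * m⁻¹) * n⁻¹ = v := by rw [← hkv, hmdef]; group
  rw [← e, hN n hn _ (h.max_le hAmax ((mem_normalizer_iff.1 hm u).1 huA)), hA A hAmax m hm u huA]

end Setting

end Cfsg.Agent.IndexFourCentre
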