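import Cfsg.Agent.Lib.IndexFourCentre.Simple
import Cfsg.Agent.Lib.IndexFourCentre.Abelian
import Cfsg.Agent.Lib.GW.MainFinal
import Cfsg.Agent.Lib.GW.BenderComponentCentre
import Cfsg.Agent.S2116

/-!
# Quasisimple groups with a Sylow 2-subgroup whose centre has index 4
-/

set_option autoImplicit false
set_option linter.style.haveILetI false
set_option linter.unusedSectionVars false

namespace Cfsg.Agent.IndexFourCentre.Main

open Subgroup
open scoped commutatorElement

universe u

variable {G : Type u} [Group G] [Finite G]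

/-- The centre and the commutator. -/
theorem exists_setting (P : Subgroup G) (hP : ¬ IsMulCommutative P) (hZ : (center P).index = 4) :
    ∃ (Z : Subgroup G) (c : G), Setting P Z c := by
  set Z := (center P).map P.subtype with hZdef
  have hle : Z ≤ P := map_subtype_le _
  have hcen : ∀ z ∈ Z, ∀ x ∈ P, z * x = x * z := by
    rintro _ ⟨z, hz, rfl⟩ x hx
    exact (congrArg Subtype.val (mem_center_iff.1 hz ⟨x, hx⟩)).symm
  have hmem : ∀ z ∈ P, (∀ x ∈ P, z * x = x * z) → z ∈ Z := fun z hz hc =>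
    ⟨⟨z, hz⟩, mem_center_iff.2 fun x => Subtype.ext (hc x x.2).symm, rfl⟩
  have hrel : Z.relIndex P = 4 := by
    rw [relIndex, hZdef, subgroupOf, comap_map_eq_self_of_injective P.subtype_injective, hZ]
  have hsq : ∀ x ∈ P, x * x ∈ Z := by
    intro x hx
    by_cases hxZ : x ∈ Z
    · exact mul_mem hxZ hxZ
    by_contra hne
    have hpow : x ^ 4 ∈ Z := by
      have := Subgroup.pow_index_mem (center P) ⟨x, hx⟩
      rw [hZ] at this
      exact ⟨_, this, by simp⟩
    have h3 : x * (x * x) ∉ Z := fun e => hxZ (by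
      have := mul_mem hpow (inv_mem e)
      rwa [show x ^ 4 * (x * (x * x))⁻¹ = x by group] at this)
    refine hxZ (hmem x hx fun w hw => ?_)
    rcases cases4_aux hrel (a := x) (b := x * x) hx (mul_mem hx hx) hw hxZ hne
        (by rwa [inv_mul_cancel_left]) h3 (by
          rwa [show (x * x)⁻¹ * (x * (x * x)) = x by group]) with e | e | e | e
    · exact (hcen w e x hx).symm
    all_goals
      have hc := hcen _ e x hx
    · calc x * w = x * (x * (x⁻¹ * w)) := by group
        _ = x * (x⁻¹ * w * x) := by rw [hc]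
        _ = w * x := by group
    · calc x * w = (x * x) * (x * ((x * x)⁻¹ * w)) := by group
        _ = (x * x) * ((x * x)⁻¹ * w * x) := by rw [hc]
        _ = w * x := by group
    · calc x * w = (x * (x * x)) * (x * ((x * (x * x))⁻¹ * w)) := by group
        _ = (x * (x * x)) * ((x * (x * x))⁻¹ * w * x) := by rw [hc]
        _ = w * x := by group
  obtain ⟨a, ha, b, hb, hab⟩ : ∃ a ∈ P, ∃ b ∈ P, a * b ≠ b * a := by
    by_contra hne
    push Not at hne
    exact hP ⟨⟨fun x y => Subtype.ext (hne x x.2 y y.2)⟩⟩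
  set c := a * b * a⁻¹ * b⁻¹ with hc
  have hc1 : c ≠ 1 := fun e => hab (by
    calc a * b = a * b * a⁻¹ * b⁻¹ * (b * a) := by group
      _ = b * a := by rw [← hc, e, one_mul])
  have haZ : a ∉ Z := fun e => hab (hcen a e b hb)
  have hbZ : b ∉ Z := fun e => hab (hcen b e a ha).symm
  have habZ : a⁻¹ * b ∉ Z := fun e => hab (by
    have h1 := hcen _ e a ha
    calc a * b = a * (a * (a⁻¹ * b)) := by group
      _ = a * (a⁻¹ * b * a) := by rw [h1]
      _ = b * a := by group)
  have hcZ : c ∈ Z := by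
    have h1 := inv_mem (hsq a ha)
    have h2 := inv_mem (hsq b hb)
    have e : c = a * b * (a * b) * ((a * a)⁻¹ * (b * b)⁻¹) := by
      rw [hc, ← hcen _ h2 _ (inv_mem (mul_mem ha ha)),
        show a * b * (a * b) * ((b * b)⁻¹ * (a * a)⁻¹) = a * b * a * b⁻¹ * (a * a)⁻¹ by group,
        mul_assoc (a * b * a) b⁻¹, ← hcen _ h1 _ (inv_mem hb)]
      group
    rw [e]
    exact mul_mem (hsq _ (mul_mem ha hb)) (mul_mem h1 h2)
  have eab : a * b * a⁻¹ = b * c := by
    rw [← hcen c hcZ b hb, hc]; group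
  have hc2 : c * c = 1 := by
    have h1 := hcen _ (hsq a ha) b hb
    have h2 : a * a * b * (a * a)⁻¹ = b * (c * c) := by
      calc a * a * b * (a * a)⁻¹ = a * (a * b * a⁻¹) * a⁻¹ := by group
        _ = a * (b * c) * a⁻¹ := by rw [eab]
        _ = a * b * a⁻¹ * (a * c * a⁻¹) := by group
        _ = b * c * c := by rw [eab, ← hcen c hcZ a ha, mul_inv_cancel_right]
        _ = b * (c * c) := by group
    rw [h1, mul_inv_cancel_right] at h2
    exact mul_eq_left.1 h2.symm
  have eba : b * a * b⁻¹ = a * c := by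
    have hcinv : c⁻¹ = c := inv_eq_of_mul_eq_one_right hc2
    have e : b * a * b⁻¹ = c⁻¹ * a := by rw [hc]; group
    rw [e, hcinv, hcen c hcZ a ha]
  -- the predicate propagates
  let Pd : G → G → Prop := fun r y => r * y * r⁻¹ = y ∨ r * y * r⁻¹ = y * c
  have hy_mul : ∀ {r y z : G}, z ∈ P → Pd r y → Pd r z → Pd r (y * z) := by
    intro r y z hz h1 h2
    have e : r * (y * z) * r⁻¹ = r * y * r⁻¹ * (r * z * r⁻¹) := by group
    rcases h1 with h1 | h1 <;> rcases h2 with h2 | h2
    · exact Or.inl (by rw [e, h1, h2])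
    · exact Or.inr (by rw [e, h1, h2, mul_assoc])
    · exact Or.inr (by rw [e, h1, h2, mul_assoc, hcen c hcZ z hz, ← mul_assoc])
    · exact Or.inl (by rw [e, h1, h2, show y * c * (z * c) = y * (c * z) * c by group,
        hcen c hcZ z hz, show y * (z * c) * c = y * z * (c * c) by group, hc2, mul_one])
  have hr_mul : ∀ {r s y : G}, r ∈ P → Pd r y → Pd s y → Pd (r * s) y := by
    intro r s y hr h1 h2
    have e : r * s * y * (r * s)⁻¹ = r * (s * y * s⁻¹) * r⁻¹ := by group
    rcases h2 with h2 | h2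
    · rcases h1 with h1 | h1
      · exact Or.inl (by rw [e, h2, h1])
      · exact Or.inr (by rw [e, h2, h1])
    · have e2 : r * (y * c) * r⁻¹ = r * y * r⁻¹ * c := by
        rw [mul_assoc r, mul_assoc y c, hcen c hcZ _ (inv_mem hr)]; group
      rcases h1 with h1 | h1
      · exact Or.inr (by rw [e, h2, e2, h1])
      · exact Or.inl (by rw [e, h2, e2, h1, mul_assoc, hc2, mul_one])
  have hZy : ∀ {r z : G}, r ∈ P → z ∈ Z → Pd r z := fun hr hz =>
    Or.inl (by rw [← hcen _ hz _ hr, mul_inv_cancel_right])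
  have hZr : ∀ {r y : G}, r ∈ Z → y ∈ P → Pd r y := fun hr hy =>
    Or.inl (by rw [hcen _ hr _ hy, mul_inv_cancel_right])
  have hab1 : a * b ∉ Z := fun e => habZ (by
    have := mul_mem (inv_mem (hsq a ha)) e
    rwa [show (a * a)⁻¹ * (a * b) = a⁻¹ * b by group] at this)
  have hab2 : b⁻¹ * (a * b) ∉ Z := fun e => haZ (by
    have e1 : b⁻¹ * (a * b) = a * (a⁻¹ * b⁻¹ * a * b) := by group
    have e2 : a⁻¹ * b⁻¹ * a * b = (b * a)⁻¹ * c * (b * a) := by rw [hc]; group
    rw [e1, e2, show (b * a)⁻¹ * c * (b * a) = (b * a)⁻¹ * (c * (b * a)) by group,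
      hcen c hcZ _ (mul_mem hb ha), inv_mul_cancel_left] at e
    exact (Subgroup.mul_mem_cancel_right _ hcZ).1 e)
  have hsplit : ∀ w ∈ P, ∃ z ∈ Z, w = z ∨ w = a * z ∨ w = b * z ∨ w = a * b * z := by
    intro w hw
    rcases cases4_aux hrel ha hb hw haZ hbZ habZ hab1 hab2 with e | e | e | e
    · exact ⟨w, e, Or.inl rfl⟩
    · exact ⟨_, e, Or.inr (Or.inl (mul_inv_cancel_left a w).symm)⟩
    · exact ⟨_, e, Or.inr (Or.inr (Or.inl (mul_inv_cancel_left b w).symm))⟩
    · exact ⟨_, e, Or.inr (Or.inr (Or.inr (mul_inv_cancel_left (a * b) w).symm))⟩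
  have hgen : ∀ r, (r = a ∨ r = b) → ∀ y ∈ P, Pd r y := by
    intro r hr y hy
    have hrP : r ∈ P := by rcases hr with rfl | rfl <;> assumption
    have hbase : Pd r a ∧ Pd r b := by
      rcases hr with rfl | rfl
      · exact ⟨Or.inl (by group), Or.inr eab⟩
      · exact ⟨Or.inr eba, Or.inl (by group)⟩
    obtain ⟨z, hz, rfl | rfl | rfl | rfl⟩ := hsplit y hy
    · exact hZy hrP hz
    · exact hy_mul (hle hz) hbase.1 (hZy hrP hz)
    · exact hy_mul (hle hz) hbase.2 (hZy hrP hz)
    · exact hy_mul (hle hz) (hy_mul hb hbase.1 hbase.2) (hZy hrP hz)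
  refine ⟨Z, c, hle, hcen, hmem, hrel, hcZ, hc1, hc2, fun x hx y hy => ?_⟩
  show Pd x y
  obtain ⟨z, hz, rfl | rfl | rfl | rfl⟩ := hsplit x hx
  · exact hZr hz hy
  · exact hr_mul ha (hgen a (Or.inl rfl) y hy) (hZr hz hy)
  · exact hr_mul hb (hgen b (Or.inr rfl) y hy) (hZr hz hy)
  · exact hr_mul (mul_mem ha hb) (hr_mul ha (hgen a (Or.inl rfl) y hy) (hgen b (Or.inr rfl) y hy))
      (hZr hz hy)

/-- A central 2-element lies in every Sylow 2-subgroup. -/
theorem mem_of_central (P : Sylow 2 G) {w : G} (hw : w ∈ center G) {k : ℕ} (hk : w ^ 2 ^ k = 1) :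
    w ∈ (P : Subgroup G) := by
  haveI : Fact (Nat.Prime 2) := ⟨Nat.prime_two⟩
  haveI : (zpowers w).Normal := ⟨fun n hn g => by
    have hc : n ∈ center G := (zpowers_le.2 hw) hn
    rwa [mem_center_iff.1 hc g, mul_inv_cancel_right]⟩
  have hp : IsPGroup 2 (zpowers w) := IsPGroup.of_card_dvd_pow (n := k) (by
    rw [Nat.card_zpowers]; exact orderOf_dvd_of_pow_eq_one hk)
  rw [← P.3 (IsPGroup.to_sup_of_normal_right P.2 hp) le_sup_left]
  exact mem_sup_right (mem_zpowers w)

/-- A central element of a Sylow 2-subgroup of a perfect group is `1` or `c`. -/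
theorem central_cases (hperf : commutator G = ⊤) (P : Sylow 2 G) {Z : Subgroup G} {c : G}
    (h : Setting (P : Subgroup G) Z c) {z : G} (hz : z ∈ (P : Subgroup G)) (hzc : z ∈ center G) :
    z = 1 ∨ z = c := by
  haveI : Fact (Nat.Prime 2) := ⟨Nat.prime_two⟩
  have hcom : ⁅(P : Subgroup G), (P : Subgroup G)⁆ ≤ zpowers c := commutator_le.2 fun x hx y hy => by
    rcases h.comm x hx y hy with e | e
    · rw [show ⁅x, y⁆ = 1 by rw [commutatorElement_def, e, mul_inv_cancel]]; exact one_mem _
    · rw [show ⁅x, y⁆ = c by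
        rw [commutatorElement_def, e, ← h.central c h.c_mem y hy, mul_inv_cancel_right]]
      exact mem_zpowers c
  have key : ∀ (k : ℕ) (g₀ : G), g₀⁻¹ * z ^ k * g₀ ∈ (P : Subgroup G) →
      g₀⁻¹ * z ^ k * g₀ = z ^ k := fun k g₀ _ => by
    rw [mul_assoc, ← mem_center_iff.1 (pow_mem hzc k) g₀, inv_mul_cancel_left]
  have h1 : MonoidHom.transfer (Abelianization.of : (P : Subgroup G) →* Abelianization (P : Subgroup G))
      z = 1 :=
    Abelianization.commutator_subset_ker _ (hperf.symm ▸ mem_top z)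
  rw [MonoidHom.transfer_eq_pow _ z key] at h1
  have h2 := (QuotientGroup.eq_one_iff _).1 h1
  have h3 : z ^ (P : Subgroup G).index ∈ zpowers c := hcom (by
    rw [← Subgroup.map_subtype_commutator (P : Subgroup G)]
    exact ⟨_, h2, rfl⟩)
  obtain ⟨k, hk⟩ := P.2 ⟨z, hz⟩
  have hk' : z ^ 2 ^ k = 1 := congrArg Subtype.val hk
  obtain ⟨m, hm⟩ := exists_pow_eq_self_of_coprime (x := z) (n := (P : Subgroup G).index)
    (Nat.Coprime.coprime_dvd_right (orderOf_dvd_of_pow_eq_one hk')
      (Nat.Coprime.pow_right k (Nat.coprime_two_right.2 (Nat.odd_iff.2 (by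
        have := P.not_dvd_index
        omega)))))
  have hzz : z ∈ zpowers c := hm ▸ pow_mem h3 m
  obtain ⟨i, hi⟩ := Subgroup.mem_zpowers_iff.1 hzz
  rw [← hi]
  rcases Int.even_or_odd i with ⟨t, rfl⟩ | ⟨t, rfl⟩
  · left; rw [← two_mul, zpow_mul, zpow_two, h.c_sq, one_zpow]
  · right; rw [zpow_add, zpow_mul, zpow_two, h.c_sq, one_zpow, one_mul, zpow_one]

theorem main (hq : Cfsg.IsQuasisimple G) (P : Sylow 2 G)
    (hna : ¬ IsMulCommutative (P : Subgroup G))
    (hZ : (center (P : Subgroup G)).index = 4) :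
    Nat.card (P : Subgroup G) = 8 ∧
      (Nonempty (G ≃* alternatingGroup (Fin 7)) ∨
       (Nat.card (center G) = 3 ∧ Nonempty (G ⧸ center G ≃* alternatingGroup (Fin 7))) ∨
       ∃ (F : Type) (_ : Field F) (_ : Fintype F), Odd (Fintype.card F) ∧
        Nonempty (G ⧸ center G ≃* Matrix.ProjectiveSpecialLinearGroup (Fin 2) F)) := by
  classical
  haveI : Fact (Nat.Prime 2) := ⟨Nat.prime_two⟩
  obtain ⟨hper, hsimp⟩ := hq
  haveI : IsSimpleGroup (G ⧸ center G) := hsimp
  have hperf : commutator G = ⊤ := hper.commutator_eq_top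
  obtain ⟨Z, c, h⟩ := exists_setting (P : Subgroup G) hna hZ
  set π := QuotientGroup.mk' (center G) with hπ
  have hπs : Function.Surjective π := QuotientGroup.mk'_surjective _
  have hπker : ∀ g, π g = 1 ↔ g ∈ center G := fun g => QuotientGroup.eq_one_iff g
  have hperfb : commutator (G ⧸ center G) = ⊤ := by
    rw [_root_.commutator_def, ← Subgroup.map_top_of_surjective π hπs, ← Subgroup.map_commutator,
      ← _root_.commutator_def, hperf]
  haveI : Group.IsPerfect (G ⧸ center G) := ⟨hperfb⟩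
  have hnab : ¬ IsMulCommutative (G ⧸ center G) := fun hc => by
    have hbot : commutator (G ⧸ center G) = ⊥ := (commutator_eq_bot_iff_center_eq_top (G := G ⧸ center G)).2
      (eq_top_iff.2 fun x _ => mem_center_iff.2 fun y => mul_comm' y x)
    exact bot_ne_top (hbot.symm.trans hperfb)
  set Q : Sylow 2 (G ⧸ center G) := P.mapSurjective hπs with hQ
  have hQP : (Q : Subgroup (G ⧸ center G)) = (P : Subgroup G).map π := Sylow.coe_mapSurjective hπs P
  have hcap : ∀ z ∈ (P : Subgroup G), z ∈ center G → z = 1 ∨ z = c := fun z hz hzc =>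
    central_cases hperf P h hz hzc
  have hrel : (Z.map π).relIndex ((P : Subgroup G).map π) = 4 := by
    rw [← relIndex_comap, ← inf_relIndex_right]
    suffices e : (Z.map π).comap π ⊓ (P : Subgroup G) = Z by rw [e]; exact h.rel
    refine le_antisymm (fun x hx => ?_) fun x hx => ⟨mem_map_of_mem _ hx, h.Z_le hx⟩
    obtain ⟨⟨z, hz, e⟩, hxP⟩ := hx
    have hw : z⁻¹ * x ∈ center G := (hπker _).1 (by rw [map_mul, map_inv, e, inv_mul_cancel])
    have := mul_mem hz (show z⁻¹ * x ∈ Z by
      rcases hcap _ (mul_mem (inv_mem (h.Z_le hz)) hxP) hw with e' | e' <;> rw [e']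
      exacts [one_mem _, h.c_mem])
    rwa [mul_inv_cancel_left] at this
  have hcardQ : Nat.card ((P : Subgroup G).map π) * Nat.card ((center G).subgroupOf (P : Subgroup G)) =
      Nat.card (P : Subgroup G) := by
    rw [Subgroup.card_eq_card_quotient_mul_card_subgroup ((center G).subgroupOf (P : Subgroup G))]
    congr 1
    have h1 : Nat.card ((P : Subgroup G).map π) = (center G).relIndex (P : Subgroup G) := by
      rw [← relIndex_bot_left, ← relIndex_comap, MonoidHom.comap_bot, QuotientGroup.ker_mk']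
    exact h1
  have hO : Cfsg.oddCore (G ⧸ center G) = ⊥ ∨ ¬ 2 ∣ Nat.card (G ⧸ center G) := by
    rcases (inferInstance : (Cfsg.oddCore (G ⧸ center G)).Normal).eq_bot_or_eq_top with e | e
    · exact Or.inl e
    · have hodd : Odd (Nat.card (G ⧸ center G)) := by
        have := InvChar.Core.odd_card_oddCore (G := G ⧸ center G)
        rwa [e, Subgroup.card_top] at this
      rw [Nat.odd_iff] at hodd
      exact Or.inr (by omega)
  have hQdvd : Nat.card (Q : Subgroup (G ⧸ center G)) ∣ Nat.card (G ⧸ center G) :=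
    Subgroup.card_subgroup_dvd_card _
  have hseven : Nat.card (alternatingGroup (Fin 7)) = 2520 := by
    rw [nat_card_alternatingGroup, Nat.card_eq_fintype_card, Fintype.card_fin]
    rfl
  have hpsl : ∀ n, 2 ≤ n → Nonempty ((Q : Subgroup (G ⧸ center G)) ≃* DihedralGroup n) →
      (∃ (F : Type) (_ : Field F) (_ : Fintype F), Odd (Fintype.card F) ∧
        Nonempty (G ⧸ center G ≃* Matrix.ProjectiveSpecialLinearGroup (Fin 2) F)) ∨
        Nonempty (G ⧸ center G ≃* alternatingGroup (Fin 7)) := by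
    intro n hn he
    have hbot : Cfsg.oddCore (G ⧸ center G) = ⊥ := hO.resolve_right fun h2 => h2 (by
      obtain ⟨e⟩ := he
      refine Dvd.dvd.trans ?_ hQdvd
      rw [Nat.card_congr e.toEquiv, DihedralGroup.nat_card]
      exact dvd_mul_right 2 n)
    let q : (G ⧸ center G) ⧸ Cfsg.oddCore (G ⧸ center G) ≃* G ⧸ center G :=
      (QuotientGroup.quotientMulEquivOfEq hbot).trans QuotientGroup.quotientBot
    rcases Cfsg.Agent.GW.perfectGW Q n hn he with ⟨F, fF, fiF, hodd, -, ⟨e⟩⟩ | ⟨⟨e⟩⟩
    · exact Or.inl ⟨F, fF, fiF, hodd, ⟨q.symm.trans e⟩⟩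
    · exact Or.inr ⟨q.symm.trans e⟩
  by_cases hc : c ∈ center G
  · -- the image is abelian
    have hab : ∀ x ∈ (Q : Subgroup (G ⧸ center G)), ∀ y ∈ (Q : Subgroup (G ⧸ center G)),
        x * y = y * x := by
      rw [hQP]
      rintro _ ⟨x, hx, rfl⟩ _ ⟨y, hy, rfl⟩
      rcases h.comm x hx y hy with e | e
      · rw [← map_mul, ← map_mul, mul_inv_eq_iff_eq_mul.1 e]
      · rw [← map_mul, ← map_mul, mul_inv_eq_iff_eq_mul.1 e, mul_assoc, h.central c h.c_mem x hx,
          ← mul_assoc, map_mul π (y * x), (hπker c).2 hc, mul_one]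
    obtain ⟨hQ4, hexp⟩ := Abelian.four_group (Q := Q) hnab hab (Y := Z.map π)
      (hQP.symm ▸ map_mono h.Z_le) (hQP.symm ▸ hrel)
      (by
        intro n hn y hy
        obtain ⟨m, rfl⟩ := hπs n
        obtain ⟨z, hz, rfl⟩ := hy
        have hm : m ∈ normalizer ((P : Subgroup G) : Set G) := mem_normalizer_fintype fun x hx => by
          show m * x * m⁻¹ ∈ (P : Subgroup G)
          have h1 := (mem_normalizer_iff.1 hn (π x)).1 (hQP.symm ▸ mem_map_of_mem π hx)
          rw [hQP, ← map_inv, ← map_mul, ← map_mul] at h1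
          obtain ⟨y, hy, e⟩ := h1
          set w := y⁻¹ * (m * x * m⁻¹) with hw
          have hwc : w ∈ center G := (hπker _).1 (by
            rw [hw, map_mul, map_inv, ← e, inv_mul_cancel])
          obtain ⟨j, hj⟩ := P.2 ⟨x, hx⟩
          obtain ⟨i, hi⟩ := P.2 ⟨y, hy⟩
          have hj' : x ^ 2 ^ j = 1 := congrArg Subtype.val hj
          have hi' : y ^ 2 ^ i = 1 := congrArg Subtype.val hi
          have hcomm : Commute y⁻¹ (m * x * m⁻¹) := by
            have : m * x * m⁻¹ = y * w := by rw [hw, mul_inv_cancel_left]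
            rw [this]
            exact (Commute.refl y).inv_left.mul_right (mem_center_iff.1 hwc y⁻¹)
          have hwp : w ∈ (P : Subgroup G) := mem_of_central P hwc (k := i + j) (by
            rw [hw, hcomm.mul_pow, inv_pow, conj_pow, pow_add, pow_mul y, hi', one_pow, inv_one,
              one_mul, mul_comm, pow_mul, hj', one_pow]
            group)
          have := mul_mem hy hwp
          rwa [hw, mul_inv_cancel_left] at this
        exact ⟨m * z * m⁻¹, h.norm_Z hm hz, by simp⟩)
      (by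
        rw [hQP]
        rintro _ ⟨x, hx, rfl⟩
        exact ⟨x * x, h.sq_mem hx, map_mul π x x⟩)
    have hker : Nat.card ((center G).subgroupOf (P : Subgroup G)) = 2 := by
      rw [Nat.card_eq_two_iff' 1]
      refine ⟨⟨⟨c, h.Z_le h.c_mem⟩, hc⟩, fun e => h.c_ne (congrArg
        (fun t : (center G).subgroupOf (P : Subgroup G) => ((t : (P : Subgroup G)) : G)) e),
        fun t ht => ?_⟩
      rcases hcap _ (t : (P : Subgroup G)).2 t.2 with e | e
      · exact absurd (Subtype.ext (Subtype.ext e)) ht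
      · exact Subtype.ext (Subtype.ext e)
    have hP8 : Nat.card (P : Subgroup G) = 8 := by
      rw [← hcardQ, ← hQP, hQ4, hker]
    haveI : IsKleinFour (Q : Subgroup (G ⧸ center G)) := by
      haveI : Nontrivial (Q : Subgroup (G ⧸ center G)) :=
        Finite.one_lt_card_iff_nontrivial.1 (by omega)
      refine ⟨hQ4, (Monoid.exponent_eq_prime_iff Nat.prime_two).2 fun g hg => ?_⟩
      exact orderOf_eq_prime (by rw [pow_two]; exact Subtype.ext (hexp g g.2)) hg
    refine ⟨hP8, Or.inr (Or.inr ?_)⟩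
    rcases hpsl 2 le_rfl IsKleinFour.nonempty_mulEquiv with e | ⟨⟨e⟩⟩
    · exact e
    · exfalso
      have hidx := Q.not_dvd_index
      have hprod := Subgroup.card_mul_index (Q : Subgroup (G ⧸ center G))
      rw [hQ4, Nat.card_congr e.toEquiv, hseven] at hprod
      omega
  · -- the image is isomorphic to `P`
    have hinj : ∀ x ∈ (P : Subgroup G), π x = 1 → x = 1 := fun x hx e =>
      (hcap x hx ((hπker x).1 e)).resolve_right fun e' => hc (e' ▸ (hπker x).1 e)
    have hinj2 : ∀ x ∈ (P : Subgroup G), ∀ y ∈ (P : Subgroup G), π x = π y → x = y :=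
      fun x hx y hy e => (inv_mul_eq_one.1 (hinj _ (mul_mem (inv_mem hx) hy)
        (by rw [map_mul, map_inv, e, inv_mul_cancel])))
    have hb : Setting (Q : Subgroup (G ⧸ center G)) (Z.map π) (π c) :=
      { Z_le := hQP.symm ▸ map_mono h.Z_le
        central := by
          rw [hQP]
          rintro _ ⟨z, hz, rfl⟩ _ ⟨x, hx, rfl⟩
          rw [← map_mul, ← map_mul, h.central z hz x hx]
        mem_Z := by
          rw [hQP]
          rintro _ ⟨z, hz, rfl⟩ hcc
          refine mem_map_of_mem π (h.mem_Z z hz fun x hx => hinj2 _ (mul_mem hz hx) _ (mul_mem hx hz) ?_)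
          rw [map_mul, map_mul]
          exact hcc _ (mem_map_of_mem π hx)
        rel := hQP.symm ▸ hrel
        c_mem := mem_map_of_mem π h.c_mem
        c_ne := fun e => h.c_ne (hinj c (h.Z_le h.c_mem) e)
        c_sq := by rw [← map_mul, h.c_sq, map_one]
        comm := by
          rw [hQP]
          rintro _ ⟨x, hx, rfl⟩ _ ⟨y, hy, rfl⟩
          rcases h.comm x hx y hy with e | e
          · exact Or.inl (by rw [← map_inv, ← map_mul, ← map_mul, e])
          · exact Or.inr (by rw [← map_inv, ← map_mul, ← map_mul, e, map_mul]) }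
    obtain ⟨eD⟩ := hb.nonempty_dihedral
    have hker : Nat.card ((center G).subgroupOf (P : Subgroup G)) = 1 := by
      rw [Subgroup.card_eq_one, eq_bot_iff]
      exact fun t ht => mem_bot.2 (Subtype.ext (hinj _ t.2 ((hπker _).2 ht)))
    have hP8 : Nat.card (P : Subgroup G) = 8 := by
      rw [← hcardQ, ← hQP, hker, Nat.card_congr eD.toEquiv, DihedralGroup.nat_card]
    refine ⟨hP8, ?_⟩
    rcases hpsl 4 (by norm_num) ⟨eD⟩ with e | ⟨⟨e⟩⟩
    · exact Or.inr (Or.inr e)
    have hodd : Odd (Nat.card (center G)) := by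
      by_contra hev
      rw [Nat.not_odd_iff_even] at hev
      obtain ⟨w, hw⟩ := exists_prime_orderOf_dvd_card' (G := center G) 2 hev.two_dvd
      have hw2 : (w : G) ^ 2 ^ 1 = 1 := by
        rw [pow_one, ← SubmonoidClass.coe_pow, ← hw, pow_orderOf_eq_one, OneMemClass.coe_one]
      have := hinj _ (mem_of_central P w.2 hw2) ((hπker _).2 w.2)
      rw [← orderOf_eq_one_iff, orderOf_coe, hw] at this
      exact absurd this (by norm_num)
    have hkerσ : (e.toMonoidHom.comp π).ker = center G := by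
      refine (MonoidHom.ker_mulEquiv_comp π e).trans ?_
      rw [hπ, QuotientGroup.ker_mk']
    have h6 := Cfsg.Agent.GW.ComponentCentre.card_ker_dvd (S2116.result 7 (Or.inr rfl))
      (e.toMonoidHom.comp π) ⟨e.surjective.comp hπs, hkerσ.le, hperf.symm ▸ le_top⟩
    rw [hkerσ] at h6
    have h3 : Nat.card (center G) ∣ 3 :=
      Nat.Coprime.dvd_of_dvd_mul_left (Nat.coprime_two_right.2 hodd) (by simpa using h6)
    rcases (Nat.dvd_prime Nat.prime_three).1 h3 with h1 | h1
    · exact Or.inl ⟨(QuotientGroup.quotientBot.symm.trans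
        (QuotientGroup.quotientMulEquivOfEq (Subgroup.card_eq_one.1 h1).symm)).trans e⟩
    · exact Or.inr (Or.inl ⟨h1, ⟨e⟩⟩)

end Cfsg.Agent.IndexFourCentre.Main
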