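import Cfsg.Agent.Lib.IndexFourCentre.Fusion
import Cfsg.Agent.Lib.Involutions.Basic

/-!
# The normaliser of an abelian subgroup of index 2

It acts as a group generated by at most three transvections times elements from `N(P)`: the span `W`
of the conjugates of `c` has order at most 4, the elements `R` of `A` staying in `Z` meet `Z` in a
complement to `c` if `c` moves, and the transvections fix `R` and act trivially modulo `W`.
-/

set_option autoImplicit false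
set_option linter.style.haveILetI false
set_option linter.unusedSectionVars false

namespace Cfsg.Agent.IndexFourCentre

open Subgroup Cfsg.Agent.Involutions
open scoped Pointwise

universe u

variable {G : Type u} [Group G] [Finite G]

/-- In a group of order not divisible by 4 two involutions have product of odd order. -/
theorem odd_orderOf_mul_of_not_four {X : Type u} [Group X] [Finite X] (h4 : ¬ 4 ∣ Nat.card X)
    {σ τ : X} (hσ : orderOf σ = 2) (hτ : orderOf τ = 2) : Odd (orderOf (σ * τ)) := by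
  by_contra hodd
  rw [Nat.not_odd_iff_even] at hodd
  obtain ⟨hm, hmσ, hmτ⟩ := Basic.middle_involution hσ hτ hodd
  -- two commuting involutions coincide
  have heq : ∀ a b : X, orderOf a = 2 → orderOf b = 2 → Commute a b → a = b := by
    intro a b ha hb hab
    by_contra hne
    have ha2 := Basic.inv_sq_one ha
    have hb2 := Basic.inv_sq_one hb
    let V : Subgroup X :=
      { carrier := {1, a, b, a * b}
        one_mem' := Or.inl rfl
        mul_mem' := by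
          have h1 : a * (a * b) = b := by rw [← mul_assoc, ha2, one_mul]
          have h2 : b * (a * b) = a := by rw [← mul_assoc, ← hab.eq, mul_assoc, hb2, mul_one]
          have h3 : a * b * a = b := by rw [hab.eq, mul_assoc, ha2, mul_one]
          have h4 : a * b * b = a := by rw [mul_assoc, hb2, mul_one]
          have h5 : a * b * (a * b) = 1 := by rw [← mul_assoc, h3, hb2]
          have hba : b * a = a * b := hab.eq.symm
          rintro x y (rfl | rfl | rfl | rfl) (rfl | rfl | rfl | rfl) <;>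
            (try simp only [one_mul, mul_one, ha2, hb2, h1, h2, h3, h4, h5]) <;>
            first
              | exact Or.inl rfl
              | exact Or.inr (Or.inl rfl)
              | exact Or.inr (Or.inr (Or.inl rfl))
              | exact Or.inr (Or.inr (Or.inr rfl))
              | exact Or.inr (Or.inr (Or.inr hba))
        inv_mem' := by
          rintro x (rfl | rfl | rfl | rfl)
          · simp
          · rw [inv_eq_of_mul_eq_one_right ha2]; exact Or.inr (Or.inl rfl)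
          · rw [inv_eq_of_mul_eq_one_right hb2]; exact Or.inr (Or.inr (Or.inl rfl))
          · rw [mul_inv_rev, inv_eq_of_mul_eq_one_right ha2, inv_eq_of_mul_eq_one_right hb2, ← hab.eq]
            exact Or.inr (Or.inr (Or.inr rfl)) }
    have hab1 : a * b ≠ 1 := fun e => hne (by
      rw [eq_inv_of_mul_eq_one_left e, inv_eq_of_mul_eq_one_right hb2])
    have hV : Nat.card V = 4 := by
      rw [← SetLike.coe_sort_coe, Nat.card_coe_set_eq]
      show ({1, a, b, a * b} : Set X).ncard = 4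
      classical
      rw [show ({1, a, b, a * b} : Set X) = (({1, a, b, a * b} : Finset X) : Set X) by simp,
        Set.ncard_coe_finset]
      have n1 : (1 : X) ∉ ({a, b, a * b} : Finset X) := by
        simp [(Basic.ne_one ha).symm, (Basic.ne_one hb).symm, hab1.symm]
      have n2 : a ∉ ({b, a * b} : Finset X) := by
        simp [hne, show a ≠ a * b from fun e => Basic.ne_one hb (left_eq_mul.1 e)]
      have n3 : b ∉ ({a * b} : Finset X) := by
        simp [show b ≠ a * b from fun e => Basic.ne_one ha (right_eq_mul.1 e)]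
      rw [Finset.card_insert_of_notMem n1, Finset.card_insert_of_notMem n2,
        Finset.card_insert_of_notMem n3, Finset.card_singleton]
    exact h4 (hV ▸ Subgroup.card_subgroup_dvd_card V)
  have e1 := heq _ _ hσ hm hmσ.symm
  have e2 := heq _ _ hτ hm hmτ.symm
  have hστ : σ = τ := e1.trans e2.symm
  subst hστ
  rw [Basic.inv_sq_one hσ, orderOf_one] at hodd
  exact absurd hodd (by decide)

/-- The span of the conjugates of `c` under `N(A)`. -/
def W (A : Subgroup G) (c : G) : Subgroup G :=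
  closure {x | ∃ m ∈ normalizer (A : Set G), x = m * c * m⁻¹}

/-- The elements of `A` all whose conjugates under `N(A)` lie in `Z`. -/
def R (A Z : Subgroup G) : Subgroup G where
  carrier := {x | x ∈ A ∧ ∀ m ∈ normalizer (A : Set G), m * x * m⁻¹ ∈ Z}
  one_mem' := ⟨one_mem A, fun m _ => by simp⟩
  mul_mem' {x y} hx hy := ⟨mul_mem hx.1 hy.1, fun m hm => by
    rw [show m * (x * y) * m⁻¹ = m * x * m⁻¹ * (m * y * m⁻¹) by group]
    exact mul_mem (hx.2 m hm) (hy.2 m hm)⟩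
  inv_mem' {x} hx := ⟨inv_mem hx.1, fun m hm => by
    rw [show m * x⁻¹ * m⁻¹ = (m * x * m⁻¹)⁻¹ by group]
    exact inv_mem (hx.2 m hm)⟩

theorem R_le_Z {A Z : Subgroup G} : R A Z ≤ Z := fun x hx => by
  simpa using hx.2 1 (one_mem _)

theorem conj_mem_R {A Z : Subgroup G} {m x : G} (hm : m ∈ normalizer (A : Set G)) (hx : x ∈ R A Z) :
    m * x * m⁻¹ ∈ R A Z :=
  ⟨(mem_normalizer_iff.1 hm x).1 hx.1, fun n hn => by
    rw [show n * (m * x * m⁻¹) * n⁻¹ = n * m * x * (n * m)⁻¹ by group]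
    exact hx.2 _ (mul_mem hn hm)⟩

theorem c_mem_W {A : Subgroup G} {c : G} : c ∈ W A c :=
  Subgroup.subset_closure ⟨1, one_mem _, by group⟩

theorem conj_mem_W {A : Subgroup G} {c m x : G} (hm : m ∈ normalizer (A : Set G)) (hx : x ∈ W A c) :
    m * x * m⁻¹ ∈ W A c := by
  have hle : W A c ≤ (W A c).comap (MulAut.conj m).toMonoidHom := (closure_le _).2 fun y hy => by
    obtain ⟨n, hn, rfl⟩ := hy
    exact Subgroup.subset_closure ⟨m * n, mul_mem hm hn, show m * (n * c * n⁻¹) * m⁻¹ = _ by group⟩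
  exact hle hx

/-- The elements acting on `A` trivially modulo `W` and fixing `R`. -/
def Triv (A Z : Subgroup G) (c : G) : Subgroup G where
  carrier := {v | v ∈ normalizer (A : Set G) ∧
    (∀ u ∈ A, v * u * v⁻¹ * u⁻¹ ∈ W A c) ∧ ∀ u ∈ R A Z, v * u * v⁻¹ = u}
  one_mem' := ⟨one_mem _, fun u _ => by simp, fun u _ => by simp⟩
  mul_mem' {v w} hv hw := ⟨mul_mem hv.1 hw.1, fun u hu => by
      rw [show v * w * u * (v * w)⁻¹ * u⁻¹ =
        v * (w * u * w⁻¹) * v⁻¹ * (w * u * w⁻¹)⁻¹ * (w * u * w⁻¹ * u⁻¹) by group]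
      exact mul_mem (hv.2.1 _ ((mem_normalizer_iff.1 hw.1 u).1 hu)) (hw.2.1 u hu),
    fun u hu => by
      rw [show v * w * u * (v * w)⁻¹ = v * (w * u * w⁻¹) * v⁻¹ by group, hw.2.2 u hu, hv.2.2 u hu]⟩
  inv_mem' {v} hv := ⟨inv_mem hv.1, fun u hu => by
      have := inv_mem (hv.2.1 _ ((mem_normalizer_iff''.1 hv.1 u).1 hu))
      rwa [show (v * (v⁻¹ * u * v) * v⁻¹ * (v⁻¹ * u * v)⁻¹)⁻¹ = v⁻¹ * u * v⁻¹⁻¹ * u⁻¹ by group] at this,
    fun u hu => by
      conv_lhs => rw [← hv.2.2 u hu]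
      group⟩

variable {P : Sylow 2 G} {Z : Subgroup G} {c : G}

namespace Setting

variable (h : Setting (P : Subgroup G) Z c) {A : Subgroup G} (hA : IsMax (P : Subgroup G) Z A)
include h hA

theorem W_le : W A c ≤ A := (closure_le _).2 fun x hx => by
  obtain ⟨m, hm, rfl⟩ := hx
  exact (mem_normalizer_iff.1 hm c).1 (h.Z_le_max hA h.c_mem)

theorem transvection {q x : G} (hq : q ∈ (P : Subgroup G)) (hqA : q ∉ A) (hx : x ∈ A) (hxZ : x ∉ Z) :
    q * x * q⁻¹ = x * c := by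
  refine (h.comm q hq x (h.max_le hA hx)).resolve_left fun e => ?_
  exact hqA (h.mem_of_comm hA hx hxZ hq (mul_inv_eq_iff_eq_mul.1 e).symm)

theorem four_not_dvd : ¬ 4 ∣ Nat.card (A.normalizerMonoidHom).range := by
  haveI : Fact (Nat.Prime 2) := ⟨Nat.prime_two⟩
  rw [← Subgroup.index_ker, Subgroup.normalizerMonoidHom_ker]
  intro h4
  set N := normalizer (A : Set G)
  have hAC : A ≤ centralizer (A : Set G) := fun x hx =>
    mem_centralizer_iff.2 fun y hy => h.max_comm hA hy hx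
  have h1 : (centralizer (A : Set G)).relIndex N ∣ A.relIndex N :=
    relIndex_dvd_of_le_left N hAC
  have h2 := relIndex_mul_relIndex A (P : Subgroup G) N (h.max_le hA) (h.le_norm_max hA)
  rw [h.max_relIndex hA] at h2
  have h3 : ¬ 2 ∣ (P : Subgroup G).relIndex N := fun e =>
    P.not_dvd_index (e.trans (relIndex_dvd_index_of_le (h.le_norm_max hA)))
  obtain ⟨j, hj⟩ := (show 4 ∣ A.relIndex N from (show 4 ∣ (centralizer (A : Set G)).relIndex N from h4).trans h1)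
  omega

theorem sq_fixes {v : G} (hv : v ∈ A) {x : G} (hx : x ∈ A) : v * x * v⁻¹ = x := by
  rw [h.max_comm hA hv hx, mul_inv_cancel_right]

/-- If the square of a product of two involutory automorphisms fixes an element, so does the product. -/
theorem fix_of_sq {p q a b x : G} (hp : p ∈ normalizer (A : Set G)) (hq : q ∈ normalizer (A : Set G))
    (hpp : p * p ∈ A) (hqq : q * q ∈ A) (ha : a ∈ A) (hpa : p * a * p⁻¹ ≠ a) (hb : b ∈ A)
    (hqb : q * b * q⁻¹ ≠ b) (hx : x ∈ A)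
    (h2 : p * q * (p * q * x * (p * q)⁻¹) * (p * q)⁻¹ = x) : p * q * x * (p * q)⁻¹ = x := by
  set ψ := A.normalizerMonoidHom with hψ
  set σ : ψ.range := ⟨ψ ⟨p, hp⟩, _, rfl⟩ with hσ
  set τ : ψ.range := ⟨ψ ⟨q, hq⟩, _, rfl⟩ with hτ
  have hval : ∀ (g : normalizer (A : Set G)) (y : A), ((ψ g y : A) : G) = g * y * (g : G)⁻¹ :=
    fun _ _ => rfl
  have hinv : ∀ (g : G) (hg : g ∈ normalizer (A : Set G)), g * g ∈ A → ∀ d ∈ A, g * d * g⁻¹ ≠ d →
      orderOf (⟨ψ ⟨g, hg⟩, _, rfl⟩ : ψ.range) = 2 := by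
    intro g hg hgg d hd hgd
    refine Basic.orderOf_two_iff.2 ⟨Subtype.ext (MulEquiv.ext fun y => Subtype.ext ?_), fun e => hgd ?_⟩
    · show g * (g * (y : G) * g⁻¹) * g⁻¹ = (y : G)
      rw [show g * (g * (y : G) * g⁻¹) * g⁻¹ = g * g * (y : G) * (g * g)⁻¹ by group,
        h.sq_fixes hA hgg y.2]
    · have := congrArg (fun f : ψ.range => (((f : MulAut A) ⟨d, hd⟩ : A) : G)) e
      simpa [hval] using this
  obtain ⟨j, hj⟩ := odd_orderOf_mul_of_not_four (h.four_not_dvd hA)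
    (hinv p hp hpp a ha hpa) (hinv q hq hqq b hb hqb)
  set γ : MulAut A := ((σ * τ : ψ.range) : MulAut A) with hγ
  have hγv : ((γ ⟨x, hx⟩ : A) : G) = p * q * x * (p * q)⁻¹ := by
    show p * (q * x * q⁻¹) * p⁻¹ = _
    group
  have hγ2 : (γ ^ 2) ⟨x, hx⟩ = ⟨x, hx⟩ := Subtype.ext (by
    rw [pow_two, MulAut.mul_apply]
    refine Eq.trans ?_ h2
    show p * (q * ((γ ⟨x, hx⟩ : A) : G) * q⁻¹) * p⁻¹ = _
    rw [hγv]; group)
  have hfix : ∀ i : ℕ, ((γ ^ 2) ^ i) ⟨x, hx⟩ = ⟨x, hx⟩ := fun i => by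
    induction i with
    | zero => rfl
    | succ i ih => rw [pow_succ, MulAut.mul_apply, hγ2, ih]
  have hγj : (γ ^ 2) ^ (j + 1) = γ := by
    rw [hγ, ← SubmonoidClass.coe_pow, ← SubmonoidClass.coe_pow]
    refine congrArg Subtype.val ?_
    rw [← pow_mul, show 2 * (j + 1) = (2 * j + 1) + 1 by ring, pow_succ, ← hj, pow_orderOf_eq_one,
      one_mul]
  rw [← hγv]
  conv_lhs => rw [← hγj, hfix]

section

variable {q : G} (hq : q ∈ (P : Subgroup G)) (hqA : q ∉ A)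
include hq hqA

/-- The conjugate transvection. -/
theorem conj_trans {m x : G} (hm : m ∈ normalizer (A : Set G)) (hx : x ∈ A) :
    (m⁻¹ * x * m ∈ Z → m * q * m⁻¹ * x * (m * q * m⁻¹)⁻¹ = x) ∧
      (m⁻¹ * x * m ∉ Z → m * q * m⁻¹ * x * (m * q * m⁻¹)⁻¹ = x * (m * c * m⁻¹)) := by
  have hx' : m⁻¹ * x * m ∈ A := (mem_normalizer_iff''.1 hm x).1 hx
  have e : m * q * m⁻¹ * x * (m * q * m⁻¹)⁻¹ = m * (q * (m⁻¹ * x * m) * q⁻¹) * m⁻¹ := by group
  constructor <;> intro hz <;> rw [e]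
  · rw [h.conj_central hz hq]; group
  · rw [h.transvection hA hq hqA hx' hz]; group

theorem trans_data {m : G} (hm : m ∈ normalizer (A : Set G)) :
    m * q * m⁻¹ ∈ normalizer (A : Set G) ∧ m * q * m⁻¹ * (m * q * m⁻¹) ∈ A ∧
      ∃ a ∈ A, m * q * m⁻¹ * a * (m * q * m⁻¹)⁻¹ ≠ a := by
  refine ⟨mul_mem (mul_mem hm (h.le_norm_max hA hq)) (inv_mem hm), ?_, ?_⟩
  · rw [show m * q * m⁻¹ * (m * q * m⁻¹) = m * (q * q) * m⁻¹ by group]
    exact (mem_normalizer_iff.1 hm _).1 (h.Z_le_max hA (h.sq_mem hq))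
  · obtain ⟨x, hx, hxZ⟩ := h.exists_gen hA
    refine ⟨m * x * m⁻¹, (mem_normalizer_iff.1 hm x).1 hx, fun e => ?_⟩
    rw [((h.conj_trans hA hq hqA hm ((mem_normalizer_iff.1 hm x).1 hx)).2 (by
      rwa [show m⁻¹ * (m * x * m⁻¹) * m = x by group]))] at e
    exact h.c_ne (conj_eq_one_iff.1 (mul_eq_left.1 e))

theorem fix_pair {m m' x : G} (hm : m ∈ normalizer (A : Set G)) (hm' : m' ∈ normalizer (A : Set G))
    (hx : x ∈ A)
    (h2 : m * q * m⁻¹ * (m' * q * m'⁻¹) * (m * q * m⁻¹ * (m' * q * m'⁻¹) * x *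
      (m * q * m⁻¹ * (m' * q * m'⁻¹))⁻¹) * (m * q * m⁻¹ * (m' * q * m'⁻¹))⁻¹ = x) :
    m * q * m⁻¹ * (m' * q * m'⁻¹) * x * (m * q * m⁻¹ * (m' * q * m'⁻¹))⁻¹ = x := by
  obtain ⟨h1, h1', a, ha, ha'⟩ := h.trans_data hA hq hqA hm
  obtain ⟨h3, h3', b, hb, hb'⟩ := h.trans_data hA hq hqA hm'
  exact h.fix_of_sq hA h1 h3 h1' h3' ha ha' hb hb' hx h2

end

theorem dichotomy_in {m : G} (hm : m ∈ normalizer (A : Set G)) (hc : m * c * m⁻¹ ∈ Z) :
    m * c * m⁻¹ = c ∧ ∀ z ∈ Z, m * z * m⁻¹ ∈ Z := by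
  obtain ⟨q, hq, hqA⟩ := h.exists_notMem_max hA
  set d := m * c * m⁻¹ with hd
  set t := m * q * m⁻¹ with ht
  have htd : t * d * t⁻¹ = d := by
    rw [ht, hd, show m * q * m⁻¹ * (m * c * m⁻¹) * (m * q * m⁻¹)⁻¹ = m * (q * c * q⁻¹) * m⁻¹ by group,
      h.conj_central h.c_mem hq]
  have hd2 : d * d = 1 := by
    rw [hd, show m * c * m⁻¹ * (m * c * m⁻¹) = m * (c * c) * m⁻¹ by group, h.c_sq, mul_one,
      mul_inv_cancel]
  have hdA := h.Z_le_max hA hc
  have hqd : q * d * q⁻¹ = d := h.conj_central hc hq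
  have hg : ∀ y, q * t * y * (q * t)⁻¹ = q * (t * y * t⁻¹) * q⁻¹ := fun y => by group
  -- `Z` is kept
  have hZ : ∀ z ∈ Z, m⁻¹ * z * m ∈ Z := by
    intro z hz
    by_contra hne
    have e := (h.conj_trans hA hq hqA hm (h.Z_le_max hA hz)).2 hne
    rw [← ht, ← hd] at e
    have hgz : q * t * z * (q * t)⁻¹ = z * d := by
      rw [hg, e, h.conj_central (mul_mem hz hc) hq]
    have := h.fix_pair hA hq hqA (one_mem _) hm (h.Z_le_max hA hz) (by
      simp only [one_mul, inv_one, mul_one, ← ht]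
      rw [hgz, hg, show t * (z * d) * t⁻¹ = t * z * t⁻¹ * (t * d * t⁻¹) by group, e, htd,
        mul_assoc z d d, hd2, mul_one, h.conj_central hz hq])
    simp only [one_mul, inv_one, mul_one, ← ht] at this
    rw [hgz] at this
    exact h.c_ne (conj_eq_one_iff.1 ((mul_eq_left.1 this : d = 1)))
  have hmap : ∀ z ∈ Z, m * z * m⁻¹ ∈ Z := by
    intro z hz
    have he : Z.map (MulAut.conj m⁻¹).toMonoidHom = Z := Subgroup.eq_of_le_of_card_ge
      (by rintro _ ⟨y, hy, rfl⟩; show m⁻¹ * y * m⁻¹⁻¹ ∈ Z; rw [inv_inv]; exact hZ y hy)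
      (card_map_of_injective (MulAut.conj m⁻¹).injective).ge
    obtain ⟨y, hy, e⟩ := he.symm ▸ hz
    have e' : m⁻¹ * y * m⁻¹⁻¹ = z := e
    rw [← e', show m * (m⁻¹ * y * m⁻¹⁻¹) * m⁻¹ = y by group]
    exact hy
  refine ⟨?_, hmap⟩
  obtain ⟨a, ha, haZ⟩ := h.exists_gen hA
  have haM : m⁻¹ * a * m ∉ Z := fun e => haZ (by
    have := hmap _ e
    rwa [show m * (m⁻¹ * a * m) * m⁻¹ = a by group] at this)
  have e := (h.conj_trans hA hq hqA hm ha).2 haM
  rw [← ht, ← hd] at e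
  have hga : q * t * a * (q * t)⁻¹ = a * c * d := by
    rw [hg, e, show q * (a * d) * q⁻¹ = q * a * q⁻¹ * (q * d * q⁻¹) by group,
      h.transvection hA hq hqA ha haZ, hqd]
  have htc : t * c * t⁻¹ = c := by
    have := (h.conj_trans hA hq hqA hm (h.Z_le_max hA h.c_mem)).1 (hZ c h.c_mem)
    rwa [← ht] at this
  have := h.fix_pair hA hq hqA (one_mem _) hm ha (by
    simp only [one_mul, inv_one, mul_one, ← ht]
    rw [hga, hg, show t * (a * c * d) * t⁻¹ = t * a * t⁻¹ * (t * c * t⁻¹) * (t * d * t⁻¹) by group,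
      e, htc, htd, show q * (a * d * c * d) * q⁻¹ =
      q * a * q⁻¹ * (q * d * q⁻¹) * (q * c * q⁻¹) * (q * d * q⁻¹) by group, hqd,
      h.conj_central h.c_mem hq, h.transvection hA hq hqA ha haZ,
      show a * c * d * c * d = a * (c * (d * c)) * d by group, h.central d hc c (h.Z_le h.c_mem),
      ← mul_assoc c c d, h.c_sq, one_mul, mul_assoc, hd2, mul_one])
  simp only [one_mul, inv_one, mul_one, ← ht] at this
  rw [hga, mul_assoc] at this
  exact (eq_inv_of_mul_eq_one_right (mul_eq_left.1 this)).trans h.c_inv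

theorem dichotomy_out {m q : G} (hq : q ∈ (P : Subgroup G)) (hqA : q ∉ A)
    (hm : m ∈ normalizer (A : Set G)) (hc : m * c * m⁻¹ ∉ Z) :
    m * q * m⁻¹ * c * (m * q * m⁻¹)⁻¹ = c * (m * c * m⁻¹) := by
  refine (h.conj_trans hA hq hqA hm (h.Z_le_max hA h.c_mem)).2 fun hmc => ?_
  have e := (h.conj_trans hA hq hqA hm (h.Z_le_max hA h.c_mem)).1 hmc
  set d := m * c * m⁻¹ with hd
  set t := m * q * m⁻¹ with ht
  have hdA : d ∈ A := (mem_normalizer_iff.1 hm c).1 (h.Z_le_max hA h.c_mem)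
  have htd : t * d * t⁻¹ = d := by
    rw [ht, hd, show m * q * m⁻¹ * (m * c * m⁻¹) * (m * q * m⁻¹)⁻¹ = m * (q * c * q⁻¹) * m⁻¹ by group,
      h.conj_central h.c_mem hq]
  have hg : ∀ y, q * t * y * (q * t)⁻¹ = q * (t * y * t⁻¹) * q⁻¹ := fun y => by group
  have hgd : q * t * d * (q * t)⁻¹ = d * c := by
    rw [hg, htd, h.transvection hA hq hqA hdA hc]
  have := h.fix_pair hA hq hqA (one_mem _) hm hdA (by
    simp only [one_mul, inv_one, mul_one, ← ht]
    rw [hgd, hg, show t * (d * c) * t⁻¹ = t * d * t⁻¹ * (t * c * t⁻¹) by group, htd, e,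
      show q * (d * c) * q⁻¹ = q * d * q⁻¹ * (q * c * q⁻¹) by group,
      h.transvection hA hq hqA hdA hc, h.conj_central h.c_mem hq, mul_assoc, h.c_sq, mul_one])
  simp only [one_mul, inv_one, mul_one, ← ht] at this
  rw [hgd] at this
  exact h.c_ne (mul_eq_left.1 this)

section

variable {m₀ : G} (hm₀ : m₀ ∈ normalizer (A : Set G)) (hmoved : m₀ * c * m₀⁻¹ ∉ Z)
include hm₀ hmoved

/-- Only three conjugates of `c`. -/
theorem conj_c_cases {m : G} (hm : m ∈ normalizer (A : Set G)) :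
    m * c * m⁻¹ = c ∨ m * c * m⁻¹ = m₀ * c * m₀⁻¹ ∨ m * c * m⁻¹ = c * (m₀ * c * m₀⁻¹) := by
  obtain ⟨q, hq, hqA⟩ := h.exists_notMem_max hA
  by_cases hmc : m * c * m⁻¹ ∈ Z
  · exact Or.inl (h.dichotomy_in hA hm hmc).1
  refine Or.inr (or_iff_not_imp_left.2 fun hne => ?_)
  set c₁ := m₀ * c * m₀⁻¹ with hc₁
  set c₂ := m * c * m⁻¹ with hc₂
  set t₁ := m₀ * q * m₀⁻¹ with ht₁
  set t₂ := m * q * m⁻¹ with ht₂
  have e1c : t₁ * c * t₁⁻¹ = c * c₁ := h.dichotomy_out hA hq hqA hm₀ hmoved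
  have e2c : t₂ * c * t₂⁻¹ = c * c₂ := h.dichotomy_out hA hq hqA hm hmc
  have hc1A : c₁ ∈ A := (mem_normalizer_iff.1 hm₀ c).1 (h.Z_le_max hA h.c_mem)
  have hc2A : c₂ ∈ A := (mem_normalizer_iff.1 hm c).1 (h.Z_le_max hA h.c_mem)
  have hcA : c ∈ A := h.Z_le_max hA h.c_mem
  have hsq : ∀ g, g * c * g⁻¹ * (g * c * g⁻¹) = 1 := fun g => by
    rw [show g * c * g⁻¹ * (g * c * g⁻¹) = g * (c * c) * g⁻¹ by group, h.c_sq, mul_one, mul_inv_cancel]
  have hc1sq : c₁ * c₁ = 1 := hsq m₀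
  have hc2sq : c₂ * c₂ = 1 := hsq m
  have e11 : t₁ * c₁ * t₁⁻¹ = c₁ := by
    rw [ht₁, hc₁, show m₀ * q * m₀⁻¹ * (m₀ * c * m₀⁻¹) * (m₀ * q * m₀⁻¹)⁻¹ =
      m₀ * (q * c * q⁻¹) * m₀⁻¹ by group, h.conj_central h.c_mem hq]
  have e22 : t₂ * c₂ * t₂⁻¹ = c₂ := by
    rw [ht₂, hc₂, show m * q * m⁻¹ * (m * c * m⁻¹) * (m * q * m⁻¹)⁻¹ =
      m * (q * c * q⁻¹) * m⁻¹ by group, h.conj_central h.c_mem hq]
  have hcross : ∀ {g g' : G}, g ∈ normalizer (A : Set G) → g' ∈ normalizer (A : Set G) →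
      g' * c * g'⁻¹ ≠ g * c * g⁻¹ → g⁻¹ * (g' * c * g'⁻¹) * g ∉ Z := by
    intro g g' hg hg' hne' hz
    have := (h.dichotomy_in hA (mul_mem (inv_mem hg) hg') (by
      rwa [show g⁻¹ * g' * c * (g⁻¹ * g')⁻¹ = g⁻¹ * (g' * c * g'⁻¹) * g by group])).1
    refine hne' ?_
    conv_rhs => rw [← this]
    group
  have e12 : t₁ * c₂ * t₁⁻¹ = c₂ * c₁ :=
    (h.conj_trans hA hq hqA hm₀ hc2A).2 (hcross hm₀ hm hne)
  have e21 : t₂ * c₁ * t₂⁻¹ = c₁ * c₂ :=
    (h.conj_trans hA hq hqA hm hc1A).2 (hcross hm hm₀ (Ne.symm hne))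
  have eq1 : q * c₁ * q⁻¹ = c₁ * c := h.transvection hA hq hqA hc1A hmoved
  have eq2 : q * c₂ * q⁻¹ = c₂ * c := h.transvection hA hq hqA hc2A hmc
  have eqc : q * c * q⁻¹ = c := h.conj_central h.c_mem hq
  have cm : ∀ {x y}, x ∈ A → y ∈ A → x * y = y * x := fun hx hy => h.max_comm hA hx hy
  -- `s = t₁ q t₁⁻¹`, a transvection of the third point
  obtain ⟨hN1, -, -⟩ := h.trans_data hA hq hqA hm₀
  set s := t₁ * q * t₁⁻¹ with hs
  have h1inv : ∀ y ∈ A, t₁⁻¹ * y * t₁ = t₁ * y * t₁⁻¹ := fun y hy => by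
    have hv : t₁ * t₁ ∈ A := (h.trans_data hA hq hqA hm₀).2.1
    have hy' : t₁⁻¹ * y * t₁ ∈ A := (mem_normalizer_iff''.1 hN1 y).1 hy
    rw [← h.sq_fixes hA hv hy']; group
  have hsapp : ∀ y ∈ A, s * y * s⁻¹ = t₁ * (q * (t₁ * y * t₁⁻¹) * q⁻¹) * t₁⁻¹ := fun y hy => by
    rw [← h1inv y hy, hs]; group
  have esc : s * c * s⁻¹ = c₁ := by
    rw [hsapp c hcA, e1c, show q * (c * c₁) * q⁻¹ = q * c * q⁻¹ * (q * c₁ * q⁻¹) by group, eqc, eq1,
      cm hc1A hcA, ← mul_assoc c c c₁, h.c_sq, one_mul, e11]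
  have esc1 : s * c₁ * s⁻¹ = c := by
    rw [hsapp c₁ hc1A, e11, eq1, show t₁ * (c₁ * c) * t₁⁻¹ = t₁ * c₁ * t₁⁻¹ * (t₁ * c * t₁⁻¹) by group,
      e11, e1c, cm hcA hc1A, ← mul_assoc c₁ c₁ c, hc1sq, one_mul]
  have esc2 : s * c₂ * s⁻¹ = c₂ := by
    rw [hsapp c₂ hc2A, e12, show q * (c₂ * c₁) * q⁻¹ = q * c₂ * q⁻¹ * (q * c₁ * q⁻¹) by group, eq2,
      eq1, cm hc1A hcA, ← mul_assoc (c₂ * c) c c₁, mul_assoc c₂ c c, h.c_sq, mul_one,
      show t₁ * (c₂ * c₁) * t₁⁻¹ = t₁ * c₂ * t₁⁻¹ * (t₁ * c₁ * t₁⁻¹) by group, e12, e11,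
      mul_assoc c₂ c₁ c₁, hc1sq, mul_one]
  have hg : ∀ y, s * t₂ * y * (s * t₂)⁻¹ = s * (t₂ * y * t₂⁻¹) * s⁻¹ := fun y => by group
  have hgc : s * t₂ * c * (s * t₂)⁻¹ = c₁ * c₂ := by
    rw [hg, e2c, show s * (c * c₂) * s⁻¹ = s * c * s⁻¹ * (s * c₂ * s⁻¹) by group, esc, esc2]
  have := h.fix_pair hA hq hqA (m := t₁) hN1 hm hcA (by
    rw [← ht₂, ← hs, hgc, hg, show t₂ * (c₁ * c₂) * t₂⁻¹ = t₂ * c₁ * t₂⁻¹ * (t₂ * c₂ * t₂⁻¹) by group,
      e21, e22, mul_assoc c₁ c₂ c₂, hc2sq, mul_one, esc1])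
  rw [← ht₂, ← hs, hgc] at this
  calc c₂ = c₁ * (c₁ * c₂) := by rw [← mul_assoc, hc1sq, one_mul]
    _ = c * c₁ := by rw [this, cm hc1A hcA]

theorem mem_W_cases {x : G} (hx : x ∈ W A c) :
    x = 1 ∨ x = c ∨ x = m₀ * c * m₀⁻¹ ∨ x = c * (m₀ * c * m₀⁻¹) := by
  set c₁ := m₀ * c * m₀⁻¹ with hc₁
  have hc1A : c₁ ∈ A := (mem_normalizer_iff.1 hm₀ c).1 (h.Z_le_max hA h.c_mem)
  have hcm : c₁ * c = c * c₁ := h.max_comm hA hc1A (h.Z_le_max hA h.c_mem)
  have hc1 : c₁ * c₁ = 1 := by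
    rw [hc₁, show m₀ * c * m₀⁻¹ * (m₀ * c * m₀⁻¹) = m₀ * (c * c) * m₀⁻¹ by group, h.c_sq, mul_one,
      mul_inv_cancel]
  induction hx using closure_induction with
  | mem y hy =>
    obtain ⟨m, hm, rfl⟩ := hy
    rcases h.conj_c_cases hA hm₀ hmoved hm with e | e | e
    · exact Or.inr (Or.inl e)
    · exact Or.inr (Or.inr (Or.inl e))
    · exact Or.inr (Or.inr (Or.inr e))
  | one => exact Or.inl rfl
  | mul y z _ _ hy hz =>
    have h1 : c * (c * c₁) = c₁ := by rw [← mul_assoc, h.c_sq, one_mul]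
    have h2 : c₁ * (c * c₁) = c := by rw [← mul_assoc, hcm, mul_assoc, hc1, mul_one]
    have h3 : c * c₁ * c = c₁ := by rw [mul_assoc, hcm, h1]
    have h4 : c * c₁ * c₁ = c := by rw [mul_assoc, hc1, mul_one]
    have h5 : c * c₁ * (c * c₁) = 1 := by rw [mul_assoc, h2, h.c_sq]
    rcases hy with rfl | rfl | rfl | rfl <;> rcases hz with rfl | rfl | rfl | rfl <;>
      simp [h.c_sq, hc1, h1, h2, h3, h4, h5, hcm]
  | inv y _ hy =>
    rcases hy with rfl | rfl | rfl | rfl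
    · simp
    · exact Or.inr (Or.inl h.c_inv)
    · exact Or.inr (Or.inr (Or.inl (inv_eq_of_mul_eq_one_right hc1)))
    · exact Or.inr (Or.inr (Or.inr (by
        rw [mul_inv_rev, h.c_inv, inv_eq_of_mul_eq_one_right hc1, hcm])))

theorem c_notMem_R : c ∉ R A Z := fun hc => hmoved (hc.2 m₀ hm₀)

end

/-- `Z = ⟨c⟩ R`. -/
theorem R_compl {x : G} (hx : x ∈ Z) : x ∈ R A Z ∨ x * c ∈ R A Z := by
  by_cases hmov : ∀ m ∈ normalizer (A : Set G), m * c * m⁻¹ ∈ Z
  · exact Or.inl ⟨h.Z_le_max hA hx, fun m hm => (h.dichotomy_in hA hm (hmov m hm)).2 x hx⟩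
  push Not at hmov
  obtain ⟨m₀, hm₀, hmoved⟩ := hmov
  obtain ⟨q, hq, hqA⟩ := h.exists_notMem_max hA
  set c₁ := m₀ * c * m₀⁻¹ with hc₁
  set t₁ := m₀ * q * m₀⁻¹ with ht₁
  have hcA : c ∈ A := h.Z_le_max hA h.c_mem
  have hc1A : c₁ ∈ A := (mem_normalizer_iff.1 hm₀ c).1 hcA
  have e1c : t₁ * c * t₁⁻¹ = c * c₁ := h.dichotomy_out hA hq hqA hm₀ hmoved
  have hsq : ∀ g, g * c * g⁻¹ * (g * c * g⁻¹) = 1 := fun g => by
    rw [show g * c * g⁻¹ * (g * c * g⁻¹) = g * (c * c) * g⁻¹ by group, h.c_sq, mul_one, mul_inv_cancel]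
  have hN1 := (h.trans_data hA hq hqA hm₀).1
  -- an element of `Z` fixed by the second transvection is fixed by all
  suffices key : ∀ y ∈ Z, t₁ * y * t₁⁻¹ = y → y ∈ R A Z by
    by_cases hfix : m₀⁻¹ * x * m₀ ∈ Z
    · exact Or.inl (key x hx ((h.conj_trans hA hq hqA hm₀ (h.Z_le_max hA hx)).1 hfix))
    · refine Or.inr (key _ (mul_mem hx h.c_mem) ?_)
      rw [show t₁ * (x * c) * t₁⁻¹ = t₁ * x * t₁⁻¹ * (t₁ * c * t₁⁻¹) by group, e1c,
        ht₁, (h.conj_trans hA hq hqA hm₀ (h.Z_le_max hA hx)).2 hfix, ← hc₁,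
        h.max_comm hA hcA hc1A, mul_assoc x, ← mul_assoc c₁, hsq, one_mul]
  intro y hy hty
  have hyA := h.Z_le_max hA hy
  refine ⟨hyA, fun m hm => ?_⟩
  -- it is enough that every conjugate transvection fixes `y`
  suffices hfix : ∀ n ∈ normalizer (A : Set G), n⁻¹ * y * n ∈ Z by
    simpa using hfix m⁻¹ (inv_mem hm)
  intro n hn
  by_cases hnc : n * c * n⁻¹ ∈ Z
  · have := (h.dichotomy_in hA (inv_mem hn) (by
      rw [show n⁻¹ * c * n⁻¹⁻¹ = c by nth_rewrite 1 [← (h.dichotomy_in hA hn hnc).1]; group]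
      exact h.c_mem)).2 y hy
    simpa using this
  by_contra hne
  set d := n * c * n⁻¹ with hd
  set t := n * q * n⁻¹ with ht
  have e := (h.conj_trans hA hq hqA hn hyA).2 hne
  rw [← ht, ← hd] at e
  have hd0 : d ≠ 1 := fun e1 => h.c_ne (conj_eq_one_iff.1 e1)
  have hdA : d ∈ A := (mem_normalizer_iff.1 hn c).1 hcA
  have htd : t * d * t⁻¹ = d := by
    rw [ht, hd, show n * q * n⁻¹ * (n * c * n⁻¹) * (n * q * n⁻¹)⁻¹ = n * (q * c * q⁻¹) * n⁻¹ by group,
      h.conj_central h.c_mem hq]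
  -- a transvection with point `d` which fixes `y`
  obtain ⟨k, hk, hkd, hky⟩ : ∃ k ∈ normalizer (A : Set G),
      k * q * k⁻¹ * d * (k * q * k⁻¹)⁻¹ = d ∧ k * q * k⁻¹ * y * (k * q * k⁻¹)⁻¹ = y := by
    have ht1c1 : t₁ * c₁ * t₁⁻¹ = c₁ := by
      rw [ht₁, hc₁, show m₀ * q * m₀⁻¹ * (m₀ * c * m₀⁻¹) * (m₀ * q * m₀⁻¹)⁻¹ =
        m₀ * (q * c * q⁻¹) * m₀⁻¹ by group, h.conj_central h.c_mem hq]
    rcases h.conj_c_cases hA hm₀ hmoved hn with e' | e' | e'
    · exact absurd (by rw [hd, e']; exact h.c_mem) hnc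
    · exact ⟨m₀, hm₀, by rw [hd, e']; exact ht1c1, hty⟩
    · refine ⟨t₁, hN1, ?_, ?_⟩
      · rw [hd, e', ← e1c, show t₁ * q * t₁⁻¹ * (t₁ * c * t₁⁻¹) * (t₁ * q * t₁⁻¹)⁻¹ =
          t₁ * (q * c * q⁻¹) * t₁⁻¹ by group, h.conj_central h.c_mem hq]
      · rw [show t₁ * q * t₁⁻¹ * y * (t₁ * q * t₁⁻¹)⁻¹ =
          t₁ * (q * (t₁⁻¹ * y * t₁) * q⁻¹) * t₁⁻¹ by group]
        have hback : t₁⁻¹ * y * t₁ = y := by
          nth_rewrite 1 [← hty]
          group
        rw [hback, h.conj_central hy hq, hty]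
  set s := k * q * k⁻¹ with hs
  have hg : ∀ v, s * t * v * (s * t)⁻¹ = s * (t * v * t⁻¹) * s⁻¹ := fun v => by group
  have hgy : s * t * y * (s * t)⁻¹ = y * d := by
    rw [hg, e, show s * (y * d) * s⁻¹ = s * y * s⁻¹ * (s * d * s⁻¹) by group, hky, hkd]
  have := h.fix_pair hA hq hqA hk hn hyA (by
    rw [← hs, ← ht, hgy, hg, show t * (y * d) * t⁻¹ = t * y * t⁻¹ * (t * d * t⁻¹) by group, e, htd,
      mul_assoc y d d, hd, hsq, mul_one, hky])
  rw [← hs, ← ht, hgy] at this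
  exact hd0 (mul_eq_left.1 this)

/-- `N(A)` acts as `N(P)` modulo `W` and on `R`. -/
theorem step {m : G} (hm : m ∈ normalizer (A : Set G)) :
    ∃ n ∈ normalizer ((P : Subgroup G) : Set G), n ∈ normalizer (A : Set G) ∧
      ∀ u ∈ A, m * u * m⁻¹ * (n * u * n⁻¹)⁻¹ ∈ W A c ∧
        (u ∈ R A Z → m * u * m⁻¹ = n * u * n⁻¹) := by
  haveI : Fact (Nat.Prime 2) := ⟨Nat.prime_two⟩
  obtain ⟨q, hq, hqA⟩ := h.exists_notMem_max hA
  have hT : ∀ g ∈ normalizer (A : Set G), g * q * g⁻¹ ∈ Triv A Z c := fun g hg =>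
    ⟨(h.trans_data hA hq hqA hg).1, fun u hu => by
      by_cases hz : g⁻¹ * u * g ∈ Z
      · rw [(h.conj_trans hA hq hqA hg hu).1 hz, mul_inv_cancel]; exact one_mem _
      · rw [(h.conj_trans hA hq hqA hg hu).2 hz, h.max_comm hA hu
          ((mem_normalizer_iff.1 hg c).1 (h.Z_le_max hA h.c_mem)), mul_inv_cancel_right]
        exact Subgroup.subset_closure ⟨g, hg, rfl⟩,
    fun u hu => (h.conj_trans hA hq hqA hg hu.1).1 (by simpa using hu.2 g⁻¹ (inv_mem hg))⟩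
  -- correct `m` so that it fixes `c`
  obtain ⟨v, hv, hvc⟩ : ∃ v ∈ Triv A Z c, v * c * v⁻¹ = m * c * m⁻¹ := by
    by_cases hmov : ∀ g ∈ normalizer (A : Set G), g * c * g⁻¹ ∈ Z
    · exact ⟨1, one_mem _, by rw [(h.dichotomy_in hA hm (hmov m hm)).1]; group⟩
    push Not at hmov
    obtain ⟨m₀, hm₀, hmoved⟩ := hmov
    have e1c := h.dichotomy_out hA hq hqA hm₀ hmoved
    have hq' : q ∈ Triv A Z c := by simpa using hT 1 (one_mem _)
    rcases h.conj_c_cases hA hm₀ hmoved hm with e | e | e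
    · exact ⟨1, one_mem _, by rw [e]; group⟩
    · refine ⟨q * (m₀ * q * m₀⁻¹), mul_mem hq' (hT m₀ hm₀), ?_⟩
      have hc1A : m₀ * c * m₀⁻¹ ∈ A := (mem_normalizer_iff.1 hm₀ c).1 (h.Z_le_max hA h.c_mem)
      rw [e, show q * (m₀ * q * m₀⁻¹) * c * (q * (m₀ * q * m₀⁻¹))⁻¹ =
        q * (m₀ * q * m₀⁻¹ * c * (m₀ * q * m₀⁻¹)⁻¹) * q⁻¹ by group, e1c,
        show q * (c * (m₀ * c * m₀⁻¹)) * q⁻¹ = q * c * q⁻¹ * (q * (m₀ * c * m₀⁻¹) * q⁻¹) by group,
        h.conj_central h.c_mem hq, h.transvection hA hq hqA hc1A hmoved,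
        h.max_comm hA hc1A (h.Z_le_max hA h.c_mem), ← mul_assoc, h.c_sq, one_mul]
    · exact ⟨m₀ * q * m₀⁻¹, hT m₀ hm₀, by rw [e1c, e]⟩
  set m' := v⁻¹ * m with hm'def
  have hm' : m' ∈ normalizer (A : Set G) := mul_mem (inv_mem hv.1) hm
  have hm'c : m' * c * m'⁻¹ = c := by
    rw [hm'def, show v⁻¹ * m * c * (v⁻¹ * m)⁻¹ = v⁻¹ * (m * c * m⁻¹) * v by group, ← hvc]; group
  have hm'Z := (h.dichotomy_in hA hm' (hm'c.symm ▸ h.c_mem)).2
  have hm'Z' : ∀ z ∈ Z, m'⁻¹ * z * m' ∈ Z := fun z hz => by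
    have := (h.dichotomy_in hA (inv_mem hm') (by
      rw [show m'⁻¹ * c * m'⁻¹⁻¹ = c by nth_rewrite 1 [← hm'c]; group]
      exact h.c_mem)).2 z hz
    simpa using this
  -- `m'` normalises `K = C(A) ⟨q⟩`
  set K := centralizer (A : Set G) ⊔ zpowers q with hK
  have hAC : A ≤ centralizer (A : Set G) := fun x hx =>
    mem_centralizer_iff.2 fun y hy => h.max_comm hA hy hx
  have hPK : (P : Subgroup G) ≤ K := fun x hx => by
    by_cases hxA : x ∈ A
    · exact mem_sup_left (hAC hxA)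
    · have := mul_mem (mem_sup_right (S := centralizer (A : Set G)) (mem_zpowers q))
        (mem_sup_left (T := zpowers q) (hAC (h.coset_max hA hq hqA hx hxA)))
      rwa [mul_inv_cancel_left] at this
  have hKT : K ≤ Triv A Z c := sup_le (fun x hx =>
    ⟨mem_normalizer_fintype fun u hu => by
        show x * u * x⁻¹ ∈ A
        rwa [← mem_centralizer_iff.1 hx u hu, mul_inv_cancel_right],
      fun u hu => by
        rw [← mem_centralizer_iff.1 hx u hu, mul_inv_cancel_right, mul_inv_cancel]; exact one_mem _,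
      fun u hu => by rw [← mem_centralizer_iff.1 hx u hu.1, mul_inv_cancel_right]⟩)
    (zpowers_le.2 (by simpa using hT 1 (one_mem _)))
  have hsame : ∀ u ∈ A, m' * q * m'⁻¹ * u * (m' * q * m'⁻¹)⁻¹ = q * u * q⁻¹ := fun u hu => by
    by_cases hz : u ∈ Z
    · rw [(h.conj_trans hA hq hqA hm' hu).1 (hm'Z' u hz), h.conj_central hz hq]
    · rw [(h.conj_trans hA hq hqA hm' hu).2 (fun e => hz (by
        have := hm'Z _ e
        rwa [show m' * (m'⁻¹ * u * m') * m'⁻¹ = u by group] at this)), hm'c,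
        h.transvection hA hq hqA hu hz]
  have hCn : ∀ x ∈ centralizer (A : Set G), m' * x * m'⁻¹ ∈ centralizer (A : Set G) := fun x hx => by
    rw [mem_centralizer_iff] at hx ⊢
    intro u hu
    calc u * (m' * x * m'⁻¹) = m' * ((m'⁻¹ * u * m') * x) * m'⁻¹ := by group
      _ = m' * (x * (m'⁻¹ * u * m')) * m'⁻¹ := by rw [hx _ ((mem_normalizer_iff''.1 hm' u).1 hu)]
      _ = m' * x * m'⁻¹ * u := by group
  have hKm : ∀ x ∈ K, m' * x * m'⁻¹ ∈ K := by
    have hle : K ≤ K.comap (MulAut.conj m').toMonoidHom := sup_le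
      (fun x hx => mem_sup_left (hCn x hx)) (zpowers_le.2 (by
        show m' * q * m'⁻¹ ∈ K
        have hmem : q⁻¹ * (m' * q * m'⁻¹) ∈ centralizer (A : Set G) := by
          rw [mem_centralizer_iff]
          intro u hu
          have e := hsame u hu
          set t := m' * q * m'⁻¹
          calc u * (q⁻¹ * t) = q⁻¹ * (q * u * q⁻¹) * t := by group
            _ = q⁻¹ * t * u := by rw [← e]; group
        have := mul_mem (mem_sup_right (S := centralizer (A : Set G)) (mem_zpowers q))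
          (mem_sup_left (T := zpowers q) hmem)
        rwa [mul_inv_cancel_left] at this))
    exact fun x hx => hle hx
  have hle : ((m' • P : Sylow 2 G) : Subgroup G) ≤ K := by
    rw [Sylow.coe_subgroup_smul]
    rintro _ ⟨y, hy, rfl⟩
    exact hKm y (hPK hy)
  obtain ⟨k, hk⟩ := MulAction.exists_smul_eq K ((m' • P).subtype hle) (P.subtype hPK)
  have hk' : (k : G) • (m' • P) = P := by
    simp_rw [Sylow.smul_subtype, Subgroup.smul_def] at hk
    exact Sylow.subtype_injective hk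
  rw [smul_smul, Sylow.smul_eq_iff_mem_normalizer] at hk'
  refine ⟨(k : G) * m', hk', mul_mem (hKT k.2).1 hm', fun u hu => ?_⟩
  -- `m = (v k⁻¹) n`
  have hw : v * (k : G)⁻¹ ∈ Triv A Z c := mul_mem hv (inv_mem (hKT k.2))
  have e : ∀ u, m * u * m⁻¹ = v * (k : G)⁻¹ * ((k : G) * m' * u * ((k : G) * m')⁻¹) *
      (v * (k : G)⁻¹)⁻¹ := fun u => by rw [hm'def]; group
  have hn : (k : G) * m' ∈ normalizer (A : Set G) := mul_mem (hKT k.2).1 hm'
  refine ⟨?_, fun huR => ?_⟩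
  · rw [e]
    exact hw.2.1 _ ((mem_normalizer_iff.1 hn u).1 hu)
  · rw [e]
    exact hw.2.2 _ (conj_mem_R hn huR)

end Setting

end Cfsg.Agent.IndexFourCentre
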