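import Cfsg.Agent.Lib.IndexFourCentre.Moved
import Cfsg.Agent.Lib.ZStar.Main
import Cfsg.Agent.GStructB.ProductFusion.Main
import Cfsg.Agent.Lib.PGroups.WreathD8.Model
import Cfsg.Prelude.Def_TwoFusion

/-!
# Simple groups with a Sylow 2-subgroup whose centre has index 4

The commutator `c` moves in exactly two of the abelian subgroups of index 2; the two conjugates of
`c` found there generate a strongly closed dihedral group `D` of order 8, and `P = D × B` with
`B = [Z, N(P)]` strongly closed, so `B = 1`.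
-/

set_option autoImplicit false
set_option linter.style.haveILetI false
set_option linter.unusedSectionVars false

namespace Cfsg.Agent.IndexFourCentre

open Subgroup
open Cfsg.Agent.StronglyClosedFour (exists_conj_into_involution)
open scoped commutatorElement

universe u

variable {G : Type u} [Group G] [Finite G] {P : Sylow 2 G} {Z : Subgroup G} {c : G}

/-- `c` moves in `A`. -/
def Moved (A Z : Subgroup G) (c : G) : Prop :=
  ∃ m ∈ normalizer (A : Set G), m * c * m⁻¹ ∉ Z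

namespace Setting

variable (h : Setting (P : Subgroup G) Z c)
include h

theorem not_comm : ¬ IsMulCommutative G := fun hc => by
  obtain ⟨x, -, y, -, e⟩ := h.exists_moves
  rw [mul_comm' x y, mul_inv_cancel_right] at e
  exact h.c_ne (mul_eq_left.1 e.symm)

section simple

variable [IsSimpleGroup G]

theorem center_bot : center G = ⊥ := by
  rcases (inferInstance : (center G).Normal).eq_bot_or_eq_top with e | e
  · exact e
  · exact absurd ⟨⟨fun a b => (mem_center_iff.1 (e ▸ mem_top a) b).symm⟩⟩ h.not_comm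

theorem commutator_top : commutator G = ⊤ := by
  rcases (inferInstance : (commutator G).Normal).eq_bot_or_eq_top with e | e
  · have hc : center G = ⊤ := (commutator_eq_bot_iff_center_eq_top (G := G)).1 e
    rw [h.center_bot] at hc
    exact absurd hc bot_ne_top
  · exact e

theorem oddCore_bot : Cfsg.oddCore G = ⊥ := by
  rcases (inferInstance : (Cfsg.oddCore G).Normal).eq_bot_or_eq_top with e | e
  · exact e
  · have hodd : Odd (Nat.card G) := by
      have := InvChar.Core.odd_card_oddCore (G := G)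
      rwa [e, Subgroup.card_top] at this
    have h2 : orderOf c = 2 := Cfsg.Agent.Involutions.Basic.orderOf_two_iff.2 ⟨h.c_sq, h.c_ne⟩
    have h3 := orderOf_dvd_natCard c
    rw [h2] at h3
    rw [Nat.odd_iff] at hodd
    omega

/-- `c` is conjugate to an element of `P` outside `Z`. -/
theorem exists_conj_c : ∃ g : G, g * c * g⁻¹ ∈ (P : Subgroup G) ∧ g * c * g⁻¹ ∉ Z := by
  haveI : Fact (Nat.Prime 2) := ⟨Nat.prime_two⟩
  by_contra hne
  push Not at hne
  have hiso : Cfsg.IsIsolatedInvolution c := by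
    refine ⟨Cfsg.Agent.Involutions.Basic.orderOf_two_iff.2 ⟨h.c_sq, h.c_ne⟩, fun g hg => ?_⟩
    have hPC : (P : Subgroup G) ≤ centralizer ({c} : Set G) := fun x hx =>
      mem_centralizer_singleton_iff.2 (h.central c h.c_mem x hx).symm
    obtain ⟨k, hk, hkP⟩ := exists_conj_into_involution (K := centralizer ({c} : Set G))
      (T := (P : Subgroup G)) (t := g * c * g⁻¹)
      (by rw [show g * c * g⁻¹ * (g * c * g⁻¹) = g * (c * c) * g⁻¹ by group, h.c_sq]; group)
      (mem_centralizer_singleton_iff.2 hg.eq.symm) (by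
        rw [Nat.odd_iff]
        have h1 : ¬ 2 ∣ (P : Subgroup G).relIndex (centralizer ({c} : Set G)) := fun e =>
          P.not_dvd_index (e.trans (relIndex_dvd_index_of_le hPC))
        omega)
    have e : k⁻¹ * (g * c * g⁻¹) * k = k⁻¹ * g * c * (k⁻¹ * g)⁻¹ := by group
    rw [e] at hkP
    obtain ⟨n, hn, en⟩ := h.center_fusion h.c_mem (hne _ hkP)
    rw [h.norm_c hn, ← e] at en
    calc g * c * g⁻¹ = k * (k⁻¹ * (g * c * g⁻¹) * k) * k⁻¹ := by group
      _ = c := by rw [← en, mem_centralizer_singleton_iff.1 hk, mul_inv_cancel_right]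
  have := Cfsg.Agent.ZStar.Main.mem_center_of_isolated h.oddCore_bot hiso
  rw [h.center_bot, mem_bot] at this
  exact h.c_ne this

theorem exists_moved : ∃ A, IsMax (P : Subgroup G) Z A ∧ Moved A Z c := by
  by_contra hne
  push Not at hne
  obtain ⟨g, hgP, hgZ⟩ := h.exists_conj_c
  have hfix : ∀ A, IsMax (P : Subgroup G) Z A → ∀ m ∈ normalizer (A : Set G), m * c * m⁻¹ = c :=
    fun A hA m hm => (h.dichotomy_in hA hm (by
      by_contra e
      exact hne A hA ⟨m, hm, e⟩)).1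
  have key := h.fusion_invariant (fun u => u = c) (fun n hn u _ => propext
      ⟨fun e => by
        have e' : n * u * n⁻¹ = n * c * n⁻¹ := e.trans (h.norm_c hn).symm
        exact mul_left_cancel (mul_right_cancel e'),
      fun e => by subst e; exact h.norm_c hn⟩)
    (fun A hA m hm u _ => propext
      ⟨fun e => by
        have e' : m * u * m⁻¹ = m * c * m⁻¹ := e.trans (hfix A hA m hm).symm
        exact mul_left_cancel (mul_right_cancel e'),
      fun e => by subst e; exact hfix A hA m hm⟩) g c (h.Z_le h.c_mem) hgP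
  exact hgZ (by rw [(iff_of_eq key).2 rfl]; exact h.c_mem)

theorem commutator_inf : commutator G ⊓ (P : Subgroup G) = (P : Subgroup G) := by
  rw [h.commutator_top, top_inf_eq]

end simple

/-- `c` is not a square in a moved `A`. -/
theorem c_not_sq {A : Subgroup G} (hA : IsMax (P : Subgroup G) Z A) (hmov : Moved A Z c) {x : G}
    (hx : x ∈ A) : x * x ≠ c := fun e => by
  obtain ⟨m, hm, hmc⟩ := hmov
  refine hmc ?_
  rw [← e, show m * (x * x) * m⁻¹ = m * x * m⁻¹ * (m * x * m⁻¹) by group]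
  exact h.sq_mem (h.max_le hA ((mem_normalizer_iff.1 hm x).1 hx))

theorem exists_point {A : Subgroup G} (hA : IsMax (P : Subgroup G) Z A) (hmov : Moved A Z c) :
    ∃ x ∈ A, x ∉ Z ∧ x * x = 1 := by
  obtain ⟨m, hm, hmc⟩ := hmov
  exact ⟨_, (mem_normalizer_iff.1 hm c).1 (h.Z_le_max hA h.c_mem), hmc,
    by rw [show m * c * m⁻¹ * (m * c * m⁻¹) = m * (c * c) * m⁻¹ by group, h.c_sq]; group⟩

/-- Two involutions in two of the maximal subgroups. -/
theorem pair_sq {A B : Subgroup G} (hA : IsMax (P : Subgroup G) Z A) (hB : IsMax (P : Subgroup G) Z B)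
    (hne : A ≠ B) {x y : G} (hx : x ∈ A) (hxZ : x ∉ Z) (hx2 : x * x = 1) (hy : y ∈ B) (hyZ : y ∉ Z)
    (hy2 : y * y = 1) : x * y * (x * y) = c := by
  have hyA : y ∉ A := fun e => hne (h.eq_of_mem hA hB e hy hyZ)
  have hxy : x * y * x⁻¹ = y * c :=
    (h.comm x (h.max_le hA hx) y (h.max_le hB hy)).resolve_left fun e =>
      hyA (h.mem_of_comm hA hx hxZ (h.max_le hB hy) (mul_inv_eq_iff_eq_mul.1 e))
  rw [inv_eq_of_mul_eq_one_right hx2] at hxy
  calc x * y * (x * y) = x * y * x * y := by group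
    _ = y * c * y := by rw [hxy]
    _ = y * y * c := by rw [mul_assoc, h.central c h.c_mem y (h.max_le hB hy), ← mul_assoc]
    _ = c := by rw [hy2, one_mul]

/-- At most two of the maximal subgroups are moved. -/
theorem moved_two {A B C : Subgroup G} (hA : IsMax (P : Subgroup G) Z A)
    (hB : IsMax (P : Subgroup G) Z B) (hC : IsMax (P : Subgroup G) Z C) (mA : Moved A Z c)
    (mB : Moved B Z c) (mC : Moved C Z c) (hne : A ≠ B) : C = A ∨ C = B := by
  obtain ⟨x, hx, hxZ, hx2⟩ := h.exists_point hA mA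
  obtain ⟨y, hy, hyZ, hy2⟩ := h.exists_point hB mB
  obtain ⟨w, hw, hwZ, hw2⟩ := h.exists_point hC mC
  have hxP := h.max_le hA hx
  have hyP := h.max_le hB hy
  have hxy : x⁻¹ * y ∉ Z := fun e => hne (h.eq_of_mem hA hB (by
    have := mul_mem hx (h.Z_le_max hA e)
    rwa [mul_inv_cancel_left] at this) hy hyZ)
  rcases h.cases4 hxP hyP (h.max_le hC hw) hxZ hyZ hxy with e | e | e | e
  · exact absurd e hwZ
  · refine Or.inl (h.eq_of_mem hC hA hw ?_ hwZ)
    have := mul_mem hx (h.Z_le_max hA e)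
    rwa [mul_inv_cancel_left] at this
  · refine Or.inr (h.eq_of_mem hC hB hw ?_ hwZ)
    have := mul_mem hy (h.Z_le_max hB e)
    rwa [mul_inv_cancel_left] at this
  · exfalso
    set z := (x * y)⁻¹ * w with hz
    have hzc := h.central z e (x * y) (mul_mem hxP hyP)
    have h1 : c * (z * z) = 1 := by
      calc c * (z * z) = x * y * (x * y) * (z * z) := by rw [h.pair_sq hA hB hne hx hxZ hx2 hy hyZ hy2]
        _ = x * y * ((x * y) * z) * z := by group
        _ = x * y * (z * (x * y)) * z := by rw [hzc]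
        _ = (x * y * z) * (x * y * z) := by group
        _ = w * w := by rw [hz, mul_inv_cancel_left]
        _ = 1 := hw2
    exact h.c_not_sq hA mA (h.Z_le_max hA e) ((eq_inv_of_mul_eq_one_right h1).trans h.c_inv)

theorem norm_c' {n : G} (hn : n ∈ normalizer ((P : Subgroup G) : Set G)) : n⁻¹ * c * n = c := by
  simpa using h.norm_c (inv_mem hn)

/-- The image of a moved maximal subgroup under `N(P)`. -/
theorem moved_map {A : Subgroup G} (hA : IsMax (P : Subgroup G) Z A) (hmov : Moved A Z c) {n : G}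
    (hn : n ∈ normalizer ((P : Subgroup G) : Set G)) :
    IsMax (P : Subgroup G) Z (A.map (MulAut.conj n).toMonoidHom) ∧
      Moved (A.map (MulAut.conj n).toMonoidHom) Z c := by
  refine ⟨h.map_isMax hA fun x hx => (mem_normalizer_iff.1 hn x).1 (h.max_le hA hx), ?_⟩
  obtain ⟨m, hm, hmc⟩ := hmov
  refine ⟨n * m * n⁻¹, mem_normalizer_fintype ?_, fun e => hmc ?_⟩
  · rintro _ ⟨x, hx, rfl⟩
    refine ⟨m * x * m⁻¹, (mem_normalizer_iff.1 hm x).1 hx, ?_⟩
    show n * (m * x * m⁻¹) * n⁻¹ = n * m * n⁻¹ * (n * x * n⁻¹) * (n * m * n⁻¹)⁻¹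
    group
  · rw [show n * m * n⁻¹ * c * (n * m * n⁻¹)⁻¹ = n * (m * (n⁻¹ * c * n) * m⁻¹) * n⁻¹ by group,
      h.norm_c' hn] at e
    have := h.norm_Z (inv_mem hn) e
    rwa [show n⁻¹ * (n * (m * c * m⁻¹) * n⁻¹) * n⁻¹⁻¹ = m * c * m⁻¹ by group] at this

/-- An element of `N(P)` whose square normalises `A` normalises `A`. -/
theorem norm_of_sq {A : Subgroup G} (hA : IsMax (P : Subgroup G) Z A) {n : G}
    (hn : n ∈ normalizer ((P : Subgroup G) : Set G)) (h2 : n * n ∈ normalizer (A : Set G)) :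
    n ∈ normalizer (A : Set G) := by
  haveI : Fact (Nat.Prime 2) := ⟨Nat.prime_two⟩
  set N := normalizer ((P : Subgroup G) : Set G)
  haveI : ((P : Subgroup G).subgroupOf N).Normal := Subgroup.normal_in_normalizer
  have hodd : ¬ 2 ∣ (P : Subgroup G).relIndex N := fun e =>
    P.not_dvd_index (e.trans (relIndex_dvd_index_of_le le_normalizer))
  have hpow := Subgroup.pow_index_mem ((P : Subgroup G).subgroupOf N) ⟨n, hn⟩
  rw [mem_subgroupOf] at hpow
  obtain ⟨j, hj⟩ : ∃ j, ((P : Subgroup G).subgroupOf N).index = 2 * j + 1 :=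
    ⟨(P : Subgroup G).relIndex N / 2, by
      show (P : Subgroup G).relIndex N = _
      omega⟩
  rw [hj] at hpow
  have hpow' : n ^ (2 * j + 1) ∈ (P : Subgroup G) := hpow
  have := mul_mem (inv_mem (h.le_norm_max hA hpow')) (pow_mem h2 (j + 1))
  rwa [show (n ^ (2 * j + 1))⁻¹ * (n * n) ^ (j + 1) = n by
    rw [← pow_two, ← pow_mul, show 2 * (j + 1) = (2 * j + 1) + 1 by ring, pow_succ n (2 * j + 1),
      inv_mul_cancel_left]]
    at this

theorem W_le_of_not_moved {A : Subgroup G} (hA : IsMax (P : Subgroup G) Z A) (hno : ¬ Moved A Z c)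
    {K : Subgroup G} (hcK : c ∈ K) : W A c ≤ K := (closure_le _).2 fun x hx => by
  obtain ⟨m, hm, rfl⟩ := hx
  have hmc : m * c * m⁻¹ ∈ Z := by
    by_contra e
    exact hno ⟨m, hm, e⟩
  rw [(h.dichotomy_in hA hm hmc).1]
  exact hcK

theorem Z_le_R_of_not_moved {A : Subgroup G} (hA : IsMax (P : Subgroup G) Z A) (hno : ¬ Moved A Z c) :
    Z ≤ R A Z := fun x hx => ⟨h.Z_le_max hA hx, fun m hm => by
  refine (h.dichotomy_in hA hm ?_).2 x hx
  by_contra e
  exact hno ⟨m, hm, e⟩⟩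

/-- There are two moved maximal subgroups. -/
theorem exists_two [IsSimpleGroup G] : ∃ A₁ A₂, IsMax (P : Subgroup G) Z A₁ ∧
    IsMax (P : Subgroup G) Z A₂ ∧ Moved A₁ Z c ∧ Moved A₂ Z c ∧ A₁ ≠ A₂ := by
  haveI : Fact (Nat.Prime 2) := ⟨Nat.prime_two⟩
  obtain ⟨A₁, hA₁, m₁⟩ := h.exists_moved
  by_contra hne
  have huniq : ∀ A, IsMax (P : Subgroup G) Z A → Moved A Z c → A₁ = A := fun A hA mA => by
    by_contra e
    exact hne ⟨A₁, A, hA₁, hA, m₁, mA, e⟩
  have hcA : c ∈ A₁ := h.Z_le_max hA₁ h.c_mem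
  have hnorm : ∀ n ∈ normalizer ((P : Subgroup G) : Set G), n ∈ normalizer (A₁ : Set G) := by
    intro n hn
    obtain ⟨hm, hmm⟩ := h.moved_map hA₁ m₁ hn
    refine mem_normalizer_fintype fun x hx => ?_
    show n * x * n⁻¹ ∈ A₁
    rw [huniq _ hm hmm]
    exact mem_map_of_mem _ hx
  have key := h.fusion_invariant (fun u => u ∈ A₁)
    (fun n hn u _ => propext (mem_normalizer_iff.1 (hnorm n hn) u).symm)
    (fun A hA m hm u hu => by
      by_cases hmov : Moved A Z c
      · obtain rfl := huniq A hA hmov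
        exact propext (mem_normalizer_iff.1 hm u).symm
      obtain ⟨n, hn, -, hstep⟩ := h.step hA hm
      have hw := h.W_le_of_not_moved hA hmov hcA (hstep u hu).1
      refine propext ⟨fun e => ?_, fun e => ?_⟩
      · refine (mem_normalizer_iff.1 (hnorm n hn) u).2 ?_
        have := mul_mem (inv_mem hw) e
        rwa [show (m * u * m⁻¹ * (n * u * n⁻¹)⁻¹)⁻¹ * (m * u * m⁻¹) = n * u * n⁻¹ by group] at this
      · have := mul_mem hw ((mem_normalizer_iff.1 (hnorm n hn) u).1 e)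
        rwa [inv_mul_cancel_right] at this)
  have hle := Cfsg.Agent.Transfer.Fusion.focal_le_of_fusion P (F := A₁) fun x hx g hg => by
    refine ⟨g, rfl, ?_⟩
    rw [show ⁅x, g⁆ = x * (g * x * g⁻¹)⁻¹ by rw [commutatorElement_def]; group]
    have hiff := iff_of_eq (key g x hx hg)
    by_cases hxA : x ∈ A₁
    · exact mul_mem hxA (inv_mem (hiff.2 hxA))
    · have := h.coset_max hA₁ (inv_mem hx) (fun e => hxA (inv_mem_iff.1 e)) (inv_mem hg)
        (fun e => hxA (hiff.1 (inv_mem_iff.1 e)))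
      rwa [inv_inv] at this
  rw [h.commutator_inf] at hle
  obtain ⟨q, hq, hqA⟩ := h.exists_notMem_max hA₁
  exact hqA (hle hq)

/-- The theorem for simple groups. -/
theorem nonempty_dihedral [IsSimpleGroup G] :
    Nonempty ((P : Subgroup G) ≃* DihedralGroup 4) := by
  classical
  haveI : Fact (Nat.Prime 2) := ⟨Nat.prime_two⟩
  obtain ⟨A₁, A₂, hA₁, hA₂, m₁, m₂, hne⟩ := h.exists_two
  obtain ⟨g₁, hg₁, hg₁Z⟩ := m₁
  obtain ⟨g₂, hg₂, hg₂Z⟩ := m₂
  have m₁' : Moved A₁ Z c := ⟨g₁, hg₁, hg₁Z⟩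
  have m₂' : Moved A₂ Z c := ⟨g₂, hg₂, hg₂Z⟩
  -- `N(P)` normalises both
  have hnorm : ∀ n ∈ normalizer ((P : Subgroup G) : Set G),
      n ∈ normalizer (A₁ : Set G) ∧ n ∈ normalizer (A₂ : Set G) := by
    intro n hn
    obtain ⟨hB₁, mB₁⟩ := h.moved_map hA₁ m₁' hn
    obtain ⟨hB₂, mB₂⟩ := h.moved_map hA₂ m₂' hn
    have hinj := map_injective (f := (MulAut.conj n).toMonoidHom) (MulAut.conj n).injective
    have hfix : ∀ {A : Subgroup G}, A.map (MulAut.conj n).toMonoidHom = A →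
        n ∈ normalizer (A : Set G) := fun {A} e => mem_normalizer_fintype fun x hx =>
      e ▸ (mem_map_of_mem _ hx : (MulAut.conj n).toMonoidHom x ∈ A.map _)
    have hswap : ∀ {A A' : Subgroup G}, IsMax (P : Subgroup G) Z A →
        A.map (MulAut.conj n).toMonoidHom = A' → A'.map (MulAut.conj n).toMonoidHom = A →
        n ∈ normalizer (A : Set G) := fun {A A'} hA e e' => h.norm_of_sq hA hn <|
      mem_normalizer_fintype fun x hx => by
        have h1 : n * x * n⁻¹ ∈ A' := e ▸ (mem_map_of_mem _ hx : (MulAut.conj n).toMonoidHom x ∈ A.map _)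
        have h2 : n * (n * x * n⁻¹) * n⁻¹ ∈ A :=
          e' ▸ (mem_map_of_mem _ h1 : (MulAut.conj n).toMonoidHom _ ∈ A'.map _)
        show n * n * x * (n * n)⁻¹ ∈ A
        rwa [show n * n * x * (n * n)⁻¹ = n * (n * x * n⁻¹) * n⁻¹ by group]
    rcases h.moved_two hA₁ hA₂ hB₁ m₁' m₂' mB₁ hne with e | e <;>
      rcases h.moved_two hA₁ hA₂ hB₂ m₁' m₂' mB₂ hne with e' | e'
    · exact absurd (hinj (e.trans e'.symm)) hne
    · exact ⟨hfix e, hfix e'⟩
    · exact ⟨hswap hA₁ e e', hswap hA₂ e' e⟩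
    · exact absurd (hinj (e.trans e'.symm)) hne
  set c₁ := g₁ * c * g₁⁻¹ with hc₁
  set c₂ := g₂ * c * g₂⁻¹ with hc₂
  have hc₁A : c₁ ∈ A₁ := (mem_normalizer_iff.1 hg₁ c).1 (h.Z_le_max hA₁ h.c_mem)
  have hc₂A : c₂ ∈ A₂ := (mem_normalizer_iff.1 hg₂ c).1 (h.Z_le_max hA₂ h.c_mem)
  have hsq₁ : c₁ * c₁ = 1 := by
    rw [hc₁, show g₁ * c * g₁⁻¹ * (g₁ * c * g₁⁻¹) = g₁ * (c * c) * g₁⁻¹ by group, h.c_sq]; group
  have hsq₂ : c₂ * c₂ = 1 := by
    rw [hc₂, show g₂ * c * g₂⁻¹ * (g₂ * c * g₂⁻¹) = g₂ * (c * c) * g₂⁻¹ by group, h.c_sq]; group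
  have hpair : c₁ * c₂ * (c₁ * c₂) = c :=
    h.pair_sq hA₁ hA₂ hne hc₁A hg₁Z hsq₁ hc₂A hg₂Z hsq₂
  have hc₁P := h.max_le hA₁ hc₁A
  have hc₂P := h.max_le hA₂ hc₂A
  have h12 : c₁⁻¹ * c₂ ∉ Z := fun e => hne (h.eq_of_mem hA₁ hA₂ (by
    have := mul_mem hc₁A (h.Z_le_max hA₁ e)
    rwa [mul_inv_cancel_left] at this) hc₂A hg₂Z)
  -- the dihedral group
  obtain ⟨f, hf₀, hf₁⟩ := Cfsg.Agent.PGroups.WreathD8.exists_dihedral_hom hsq₁ hsq₂ (by
    rw [show (4 : ℕ) = 2 * 2 from rfl, pow_mul, pow_two, pow_two, hpair, h.c_sq])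
  have hfcases : ∀ i, f i = 1 ∨ f i = c ∨ f i ∉ Z := by
    intro i
    have hD : ∀ x : DihedralGroup 4, x = 1 ∨ x = .sr 0 * .sr 1 * (.sr 0 * .sr 1) ∨
        x = .sr 0 ∨ x = .sr 0 * (.sr 0 * .sr 1 * (.sr 0 * .sr 1)) ∨
        x = .sr 1 ∨ x = .sr 1 * (.sr 0 * .sr 1 * (.sr 0 * .sr 1)) ∨
        x = .sr 0 * .sr 1 ∨ x = .sr 0 * .sr 1 * (.sr 0 * .sr 1 * (.sr 0 * .sr 1)) := by decide
    have hz : ∀ {y : G}, y ∉ Z → y * c ∉ Z := fun hy e =>
      hy ((Subgroup.mul_mem_cancel_right _ h.c_mem).1 e)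
    have h12' : c₁ * c₂ ∉ Z := fun e => h12 ((h.inv_mul_mem_iff hc₁P).2 e)
    rcases hD i with e | e | e | e | e | e | e | e <;>
      simp only [e, map_one, map_mul, hf₀, hf₁, hpair]
    · exact Or.inl trivial
    · exact Or.inr (Or.inl trivial)
    · exact Or.inr (Or.inr hg₁Z)
    · exact Or.inr (Or.inr (hz hg₁Z))
    · exact Or.inr (Or.inr hg₂Z)
    · exact Or.inr (Or.inr (hz hg₂Z))
    · exact Or.inr (Or.inr h12')
    · exact Or.inr (Or.inr (hz h12'))
  set D := f.range with hD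
  have hc1D : c₁ ∈ D := ⟨_, hf₀⟩
  have hc2D : c₂ ∈ D := ⟨_, hf₁⟩
  have hcD : c ∈ D := hpair ▸ mul_mem (mul_mem hc1D hc2D) (mul_mem hc1D hc2D)
  have hDgen : D ≤ closure {c₁, c₂} := by
    rintro _ ⟨i, rfl⟩
    have h0 : c₁ ∈ closure ({c₁, c₂} : Set G) := Subgroup.subset_closure (Or.inl rfl)
    have h1 : c₂ ∈ closure ({c₁, c₂} : Set G) := Subgroup.subset_closure (Or.inr rfl)
    have hgen : ∀ x : DihedralGroup 4, x = 1 ∨ x = .sr 0 ∨ x = .sr 1 ∨ x = .sr 0 * .sr 1 ∨
        x = .sr 1 * .sr 0 ∨ x = .sr 0 * .sr 1 * .sr 0 ∨ x = .sr 1 * .sr 0 * .sr 1 ∨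
        x = .sr 0 * .sr 1 * (.sr 0 * .sr 1) := by decide
    rcases hgen i with e | e | e | e | e | e | e | e <;>
      simp only [e, map_one, map_mul, hf₀, hf₁]
    · exact one_mem _
    · exact h0
    · exact h1
    · exact mul_mem h0 h1
    · exact mul_mem h1 h0
    · exact mul_mem (mul_mem h0 h1) h0
    · exact mul_mem (mul_mem h1 h0) h1
    · exact mul_mem (mul_mem h0 h1) (mul_mem h0 h1)
  have hDP : D ≤ (P : Subgroup G) := hDgen.trans ((closure_le _).2 (by
    rintro x (rfl | rfl) <;> assumption))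
  -- `W` lies in `D`
  have hWD : ∀ A, IsMax (P : Subgroup G) Z A → W A c ≤ D := by
    intro A hA
    by_cases hmov : Moved A Z c
    · rcases h.moved_two hA₁ hA₂ hA m₁' m₂' hmov hne with rfl | rfl
      · intro x hx
        rcases h.mem_W_cases hA hg₁ hg₁Z hx with rfl | rfl | rfl | rfl
        exacts [one_mem _, hcD, hc1D, mul_mem hcD hc1D]
      · intro x hx
        rcases h.mem_W_cases hA hg₂ hg₂Z hx with rfl | rfl | rfl | rfl
        exacts [one_mem _, hcD, hc2D, mul_mem hcD hc2D]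
    · exact h.W_le_of_not_moved hA hmov hcD
  have hND : ∀ n ∈ normalizer ((P : Subgroup G) : Set G), ∀ x ∈ D, n * x * n⁻¹ ∈ D := by
    intro n hn
    have hmove : ∀ {A : Subgroup G} {g : G}, IsMax (P : Subgroup G) Z A →
        g ∈ normalizer (A : Set G) → n ∈ normalizer (A : Set G) →
        n * (g * c * g⁻¹) * n⁻¹ ∈ W A c := fun {A g} _ hg hnA =>
      Subgroup.subset_closure ⟨n * g * n⁻¹, mul_mem (mul_mem hnA hg) (inv_mem hnA), by
        conv_rhs => rw [show n * g * n⁻¹ * c * (n * g * n⁻¹)⁻¹ =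
          n * (g * (n⁻¹ * c * n) * g⁻¹) * n⁻¹ by group, h.norm_c' hn]⟩
    have hle : closure {c₁, c₂} ≤ D.comap (MulAut.conj n).toMonoidHom := (closure_le _).2 (by
      rintro x (rfl | rfl)
      · exact hWD A₁ hA₁ (hmove hA₁ hg₁ (hnorm n hn).1)
      · exact hWD A₂ hA₂ (hmove hA₂ hg₂ (hnorm n hn).2))
    exact fun x hx => hle (hDgen hx)
  have hAD : ∀ A, IsMax (P : Subgroup G) Z A → ∀ m ∈ normalizer (A : Set G), ∀ u ∈ A, u ∈ D →
      m * u * m⁻¹ ∈ D := by
    intro A hA m hm u hu huD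
    obtain ⟨n, hn, -, hstep⟩ := h.step hA hm
    have := mul_mem (hWD A hA (hstep u hu).1) (hND n hn u huD)
    rwa [inv_mul_cancel_right] at this
  have hDclosed : Cfsg.IsStronglyClosed D (P : Subgroup G) := ⟨hDP, fun x hx g hg => by
    have key := h.fusion_invariant (fun u => u ∈ D)
      (fun n hn u _ => propext ⟨fun e => by
          have := hND _ (inv_mem hn) _ e
          rwa [show n⁻¹ * (n * u * n⁻¹) * n⁻¹⁻¹ = u by group] at this, hND n hn u⟩)
      (fun A hA m hm u hu => propext ⟨fun e => by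
          have := hAD A hA _ (inv_mem hm) _ ((mem_normalizer_iff.1 hm u).1 hu) e
          rwa [show m⁻¹ * (m * u * m⁻¹) * m⁻¹⁻¹ = u by group] at this, hAD A hA m hm u hu⟩)
      g x (hDP hx) hg
    exact (iff_of_eq key).2 hx⟩
  -- `B = [Z, N(P)]`
  set S : Set G := {x | ∃ z ∈ Z, ∃ n ∈ normalizer ((P : Subgroup G) : Set G), x = n * z * n⁻¹ * z⁻¹}
  set B := closure S with hB
  have hBR : ∀ A, IsMax (P : Subgroup G) Z A → B ≤ R A Z := by
    intro A hA
    refine (closure_le _).2 ?_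
    rintro _ ⟨z, hz, n, hn, rfl⟩
    by_cases hmov : Moved A Z c
    · have hnA : n ∈ normalizer (A : Set G) := by
        rcases h.moved_two hA₁ hA₂ hA m₁' m₂' hmov hne with rfl | rfl
        exacts [(hnorm n hn).1, (hnorm n hn).2]
      rcases h.R_compl hA hz with e | e
      · exact mul_mem (conj_mem_R hnA e) (inv_mem e)
      · have := mul_mem (conj_mem_R hnA e) (inv_mem e)
        rwa [show n * (z * c) * n⁻¹ * (z * c)⁻¹ = n * z * n⁻¹ * (n * c * n⁻¹ * c⁻¹) * z⁻¹ by group,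
          h.norm_c hn, mul_inv_cancel, mul_one] at this
    · exact h.Z_le_R_of_not_moved hA hmov (mul_mem (h.norm_Z hn hz) (inv_mem hz))
  have hBZ : B ≤ Z := (hBR A₁ hA₁).trans R_le_Z
  have hNB : ∀ n ∈ normalizer ((P : Subgroup G) : Set G), ∀ x ∈ B, n * x * n⁻¹ ∈ B := by
    intro n hn
    have hle : B ≤ B.comap (MulAut.conj n).toMonoidHom := (closure_le _).2 (by
      rintro _ ⟨z, hz, k, hk, rfl⟩
      show n * (k * z * k⁻¹ * z⁻¹) * n⁻¹ ∈ B
      rw [show n * (k * z * k⁻¹ * z⁻¹) * n⁻¹ =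
        (n * k * z * (n * k)⁻¹ * z⁻¹) * (n * z * n⁻¹ * z⁻¹)⁻¹ by group]
      exact mul_mem (Subgroup.subset_closure ⟨z, hz, n * k, mul_mem hn hk, rfl⟩)
        (inv_mem (Subgroup.subset_closure ⟨z, hz, n, hn, rfl⟩)))
    exact fun x hx => hle hx
  have hAB : ∀ A, IsMax (P : Subgroup G) Z A → ∀ m ∈ normalizer (A : Set G), ∀ u ∈ A, u ∈ B →
      m * u * m⁻¹ ∈ B := by
    intro A hA m hm u hu huB
    obtain ⟨n, hn, -, hstep⟩ := h.step hA hm
    rw [(hstep u hu).2 (hBR A hA huB)]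
    exact hNB n hn u huB
  have hBclosed : Cfsg.IsStronglyClosed B (P : Subgroup G) := ⟨hBZ.trans h.Z_le, fun x hx g hg => by
    have key := h.fusion_invariant (fun u => u ∈ B)
      (fun n hn u _ => propext ⟨fun e => by
          have := hNB _ (inv_mem hn) _ e
          rwa [show n⁻¹ * (n * u * n⁻¹) * n⁻¹⁻¹ = u by group] at this, hNB n hn u⟩)
      (fun A hA m hm u hu => propext ⟨fun e => by
          have := hAB A hA _ (inv_mem hm) _ ((mem_normalizer_iff.1 hm u).1 hu) e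
          rwa [show m⁻¹ * (m * u * m⁻¹) * m⁻¹⁻¹ = u by group] at this, hAB A hA m hm u hu⟩)
      g x (h.Z_le (hBZ hx)) hg
    exact (iff_of_eq key).2 hx⟩
  -- `P = D B`
  set M := D ⊔ B with hM
  have hNM : ∀ n ∈ normalizer ((P : Subgroup G) : Set G), ∀ u ∈ (P : Subgroup G),
      n * u * n⁻¹ * u⁻¹ ∈ M := by
    intro n hn u hu
    obtain ⟨d, hd, hz⟩ : ∃ d ∈ D, d⁻¹ * u ∈ Z := by
      rcases h.cases4 hc₁P hc₂P hu hg₁Z hg₂Z h12 with e | e | e | e
      · exact ⟨1, one_mem _, by simpa using e⟩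
      · exact ⟨c₁, hc1D, e⟩
      · exact ⟨c₂, hc2D, e⟩
      · exact ⟨c₁ * c₂, mul_mem hc1D hc2D, e⟩
    rw [show n * u * n⁻¹ * u⁻¹ =
      n * d * n⁻¹ * (n * (d⁻¹ * u) * n⁻¹ * (d⁻¹ * u)⁻¹) * d⁻¹ by group]
    exact mul_mem (mul_mem (mem_sup_left (hND n hn d hd))
      (mem_sup_right (Subgroup.subset_closure ⟨_, hz, n, hn, rfl⟩))) (mem_sup_left (inv_mem hd))
  have hPM : (P : Subgroup G) ≤ M := by
    rw [← h.commutator_inf]
    refine Cfsg.Agent.Transfer.Fusion.focal_le_of_fusion P fun x hx g hg => ⟨g, rfl, ?_⟩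
    have key := h.fusion_invariant (fun u => ((u⁻¹ : G) : G ⧸ M))
      (fun n hn u hu => QuotientGroup.eq.2 (by rw [inv_inv]; exact hNM n hn u hu))
      (fun A hA m hm u hu => QuotientGroup.eq.2 (by
        obtain ⟨n, hn, -, hstep⟩ := h.step hA hm
        rw [inv_inv, show m * u * m⁻¹ * u⁻¹ =
          m * u * m⁻¹ * (n * u * n⁻¹)⁻¹ * (n * u * n⁻¹ * u⁻¹) by group]
        exact mul_mem (mem_sup_left (hWD A hA (hstep u hu).1)) (hNM n hn u (h.max_le hA hu))))
      g x hx hg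
    have := inv_mem (QuotientGroup.eq.1 key)
    rwa [inv_inv, show (g * x * g⁻¹ * x⁻¹)⁻¹ = ⁅x, g⁆ by rw [commutatorElement_def]; group] at this
  have hdisj : D ⊓ B = ⊥ := by
    refine le_bot_iff.1 fun x hx => ?_
    obtain ⟨⟨i, rfl⟩, hxB⟩ := mem_inf.1 hx
    rcases hfcases i with e | e | e
    · exact mem_bot.2 e
    · exact absurd (e ▸ hBR A₁ hA₁ hxB) (h.c_notMem_R hA₁ hg₁ hg₁Z)
    · exact absurd (hBZ hxB) e
  have hBbot : B = ⊥ := by
    by_contra hBne
    have hcomm := Cfsg.Agent.ProductFusion.commutator_normalClosure_eq_bot h.oddCore_bot P D B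
      hDclosed hBclosed (fun a ha b hb => (h.central b (hBZ hb) a (hDP ha)).symm) hdisj
    have htop : ∀ K : Subgroup G, K ≠ ⊥ → normalClosure (K : Set G) = ⊤ := fun K hK =>
      (normalClosure_normal.eq_bot_or_eq_top).resolve_left fun e =>
        hK (le_bot_iff.1 ((subset_normalClosure (s := (K : Set G))).trans_eq (by rw [e])))
    rw [htop D (fun e => h.c_ne (by rwa [e, mem_bot] at hcD)), htop B hBne] at hcomm
    have := h.commutator_top
    rw [_root_.commutator_def, hcomm] at this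
    exact bot_ne_top this
  have hPD : (P : Subgroup G) = D := le_antisymm (by simpa [hM, hBbot] using hPM) hDP
  have hinj : Function.Injective f := by
    rw [← MonoidHom.ker_eq_bot_iff, eq_bot_iff]
    intro i hi
    rw [MonoidHom.mem_ker] at hi
    have hD' : ∀ x : DihedralGroup 4, x = 1 ∨ x = .sr 0 * .sr 1 * (.sr 0 * .sr 1) ∨
        x = .sr 0 ∨ x = .sr 0 * (.sr 0 * .sr 1 * (.sr 0 * .sr 1)) ∨
        x = .sr 1 ∨ x = .sr 1 * (.sr 0 * .sr 1 * (.sr 0 * .sr 1)) ∨
        x = .sr 0 * .sr 1 ∨ x = .sr 0 * .sr 1 * (.sr 0 * .sr 1 * (.sr 0 * .sr 1)) := by decide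
    have h12' : c₁ * c₂ ∉ Z := fun e => h12 ((h.inv_mul_mem_iff hc₁P).2 e)
    have hz : ∀ {y : G}, y ∉ Z → y * c ≠ 1 := fun hy e =>
      hy ((Subgroup.mul_mem_cancel_right _ h.c_mem).1 (e ▸ one_mem Z))
    have hz' : ∀ {y : G}, y ∉ Z → y ≠ 1 := fun hy e => hy (e ▸ one_mem Z)
    rcases hD' i with e | e | e | e | e | e | e | e <;>
      simp only [e, map_one, map_mul, hf₀, hf₁, hpair] at hi
    · exact mem_bot.2 e
    exacts [absurd hi h.c_ne, absurd hi (hz' hg₁Z), absurd hi (hz hg₁Z), absurd hi (hz' hg₂Z),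
      absurd hi (hz hg₂Z), absurd hi (hz' h12'), absurd hi (hz h12')]
  exact ⟨(MulEquiv.subgroupCongr hPD).trans (MonoidHom.ofInjective hinj).symm⟩

end Setting

end Cfsg.Agent.IndexFourCentre
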